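-- helper13: stabilisers of coordinate subspaces in block form.
import Mathlib

set_option autoImplicit false

namespace Cfsg.Agent.Lib.Helper13

open Matrix

universe u

variable {α β : Type} [Fintype α] [Fintype β] [DecidableEq α] [DecidableEq β]
  {F : Type u} [Field F]

theorem mulVec_inr_of_toBlocks₂₁ (M : Matrix (α ⊕ β) (α ⊕ β) F) (h : M.toBlocks₂₁ = 0)
    (v : α ⊕ β → F) (b : β) :
    (M *ᵥ v) (Sum.inr b) = (M.toBlocks₂₂ *ᵥ (v ∘ Sum.inr)) b := by
  conv_lhs => rw [← fromBlocks_toBlocks M, h, fromBlocks_mulVec]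
  simp

theorem mulVec_inl_of_toBlocks₁₂ (M : Matrix (α ⊕ β) (α ⊕ β) F) (h : M.toBlocks₁₂ = 0)
    (v : α ⊕ β → F) (a : α) :
    (M *ᵥ v) (Sum.inl a) = (M.toBlocks₁₁ *ᵥ (v ∘ Sum.inl)) a := by
  conv_lhs => rw [← fromBlocks_toBlocks M, h, fromBlocks_mulVec]
  simp

theorem det_toBlocks_of_toBlocks₂₁ (M : Matrix (α ⊕ β) (α ⊕ β) F) (h : M.toBlocks₂₁ = 0) :
    M.det = M.toBlocks₁₁.det * M.toBlocks₂₂.det := by
  conv_lhs => rw [← fromBlocks_toBlocks M, h, det_fromBlocks_zero₂₁]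

theorem det_toBlocks_of_toBlocks₁₂ (M : Matrix (α ⊕ β) (α ⊕ β) F) (h : M.toBlocks₁₂ = 0) :
    M.det = M.toBlocks₁₁.det * M.toBlocks₂₂.det := by
  conv_lhs => rw [← fromBlocks_toBlocks M, h, det_fromBlocks_zero₁₂]

/-- An invertible matrix stabilises `{v | v ∘ inr = 0}` iff its lower left block vanishes. -/
theorem stab_inr_iff (M : Matrix (α ⊕ β) (α ⊕ β) F) (hM : M.det ≠ 0) :
    (∀ v : α ⊕ β → F, v ∈ {v : α ⊕ β → F | ∀ b : β, v (Sum.inr b) = 0} ↔
      M *ᵥ v ∈ {v : α ⊕ β → F | ∀ b : β, v (Sum.inr b) = 0}) ↔ M.toBlocks₂₁ = 0 := by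
  constructor
  · intro h
    ext b a
    have h1 := (h (Pi.single (Sum.inl a) 1)).mp (by
      intro b'
      simp)
    have h2 := h1 b
    rw [mulVec_single_one] at h2
    exact h2
  · intro h v
    have hD : M.toBlocks₂₂.det ≠ 0 := by
      intro h0
      apply hM
      rw [det_toBlocks_of_toBlocks₂₁ M h, h0, mul_zero]
    simp only [Set.mem_ofPred_eq]
    constructor
    · intro hv b
      rw [mulVec_inr_of_toBlocks₂₁ M h]
      have : v ∘ Sum.inr = 0 := by
        ext b'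
        exact hv b'
      rw [this, mulVec_zero]
      rfl
    · intro hv
      have : M.toBlocks₂₂ *ᵥ (v ∘ Sum.inr) = 0 := by
        ext b
        rw [← mulVec_inr_of_toBlocks₂₁ M h]
        exact hv b
      have h0 := eq_zero_of_mulVec_eq_zero hD this
      intro b
      exact congrFun h0 b

/-- An invertible matrix stabilises `{v | v ∘ inl = 0}` iff its upper right block vanishes. -/
theorem stab_inl_iff (M : Matrix (α ⊕ β) (α ⊕ β) F) (hM : M.det ≠ 0) :
    (∀ v : α ⊕ β → F, v ∈ {v : α ⊕ β → F | ∀ a : α, v (Sum.inl a) = 0} ↔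
      M *ᵥ v ∈ {v : α ⊕ β → F | ∀ a : α, v (Sum.inl a) = 0}) ↔ M.toBlocks₁₂ = 0 := by
  constructor
  · intro h
    ext a b
    have h1 := (h (Pi.single (Sum.inr b) 1)).mp (by
      intro a'
      simp)
    have h2 := h1 a
    rw [mulVec_single_one] at h2
    exact h2
  · intro h v
    have hD : M.toBlocks₁₁.det ≠ 0 := by
      intro h0
      apply hM
      rw [det_toBlocks_of_toBlocks₁₂ M h, h0, zero_mul]
    simp only [Set.mem_ofPred_eq]
    constructor
    · intro hv a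
      rw [mulVec_inl_of_toBlocks₁₂ M h]
      have : v ∘ Sum.inl = 0 := by
        ext a'
        exact hv a'
      rw [this, mulVec_zero]
      rfl
    · intro hv
      have : M.toBlocks₁₁ *ᵥ (v ∘ Sum.inl) = 0 := by
        ext a
        rw [← mulVec_inl_of_toBlocks₁₂ M h]
        exact hv a
      have h0 := eq_zero_of_mulVec_eq_zero hD this
      intro a
      exact congrFun h0 a

theorem toBlocks₁₁_mul (A B : Matrix (α ⊕ β) (α ⊕ β) F) :
    (A * B).toBlocks₁₁ = A.toBlocks₁₁ * B.toBlocks₁₁ + A.toBlocks₁₂ * B.toBlocks₂₁ := by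
  conv_lhs => rw [← fromBlocks_toBlocks A, ← fromBlocks_toBlocks B, fromBlocks_multiply]
  rfl

theorem toBlocks₂₂_mul (A B : Matrix (α ⊕ β) (α ⊕ β) F) :
    (A * B).toBlocks₂₂ = A.toBlocks₂₁ * B.toBlocks₁₂ + A.toBlocks₂₂ * B.toBlocks₂₂ := by
  conv_lhs => rw [← fromBlocks_toBlocks A, ← fromBlocks_toBlocks B, fromBlocks_multiply]
  rfl

end Cfsg.Agent.Lib.Helper13
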