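-- helper13: counting lemmas for subsets of GL_n over a finite field.
import Mathlib

set_option autoImplicit false

namespace Cfsg.Agent.Lib.Helper13

universe u

/-- `GL n F` as matrices with nonzero determinant. -/
noncomputable def glEquivDetNeZero {n : Type} [Fintype n] [DecidableEq n] {F : Type u} [Field F] :
    Matrix.GeneralLinearGroup n F ≃ {M : Matrix n n F // M.det ≠ 0} where
  toFun g := ⟨(g : Matrix n n F), by
    have h : IsUnit (g : Matrix n n F).det := (Matrix.isUnit_iff_isUnit_det _).mp g.isUnit
    exact h.ne_zero⟩
  invFun M := Matrix.GeneralLinearGroup.mkOfDetNeZero M.1 M.2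
  left_inv g := by
    apply Units.ext
    rfl
  right_inv M := rfl

theorem glEquivDetNeZero_apply {n : Type} [Fintype n] [DecidableEq n] {F : Type u} [Field F]
    (g : Matrix.GeneralLinearGroup n F) :
    ((glEquivDetNeZero g : {M : Matrix n n F // M.det ≠ 0}) : Matrix n n F) = g := rfl

theorem det_eq_prod_diag_of_lower {n : ℕ} {F : Type u} [Field F]
    (M : Matrix (Fin n) (Fin n) F) (h : ∀ i j : Fin n, i < j → M i j = 0) :
    M.det = ∏ i, M i i := by
  apply Matrix.det_of_isLowerTriangular
  intro i j hij
  exact h i j hij

theorem prod_lower_count (q n : ℕ) :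
    (∏ i : Fin n, ∏ j : Fin n, (if i < j then 1 else if i = j then (q - 1) else q)) =
      q ^ (n * (n - 1) / 2) * (q - 1) ^ n := by
  have inner : ∀ i : Fin n, (∏ j : Fin n, (if i < j then 1 else if i = j then (q - 1) else q)) =
      (q - 1) * q ^ (i : ℕ) := by
    intro i
    have e : ∀ j : Fin n, (if i < j then 1 else if i = j then (q - 1) else q) =
        (if j = i then (q - 1) else 1) * (if j < i then q else 1) := by
      intro j
      rcases lt_trichotomy i j with h | h | h
      · rw [if_pos h, if_neg (ne_of_gt h), if_neg (not_lt_of_gt h)]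
      · subst h
        simp
      · rw [if_neg (not_lt_of_gt h), if_neg (ne_of_gt h), if_neg (ne_of_lt h), if_pos h, one_mul]
    rw [Finset.prod_congr rfl (fun j _ => e j), Finset.prod_mul_distrib,
      Finset.prod_ite_eq' Finset.univ i, if_pos (Finset.mem_univ _), Finset.prod_ite,
      Finset.prod_const, Finset.prod_const_one, mul_one]
    congr 2
    rw [← Fin.card_Iio i]
    congr 1
    ext j
    simp
  rw [Finset.prod_congr rfl (fun i _ => inner i), Finset.prod_mul_distrib, Finset.prod_const,
    Finset.prod_pow_eq_pow_sum, Finset.card_univ, Fintype.card_fin,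
    Fin.sum_univ_eq_sum_range (fun i => i) n, Finset.sum_range_id, mul_comm]

/-- The number of invertible lower triangular matrices. -/
theorem card_lower_triangular {F : Type u} [Field F] [Fintype F] (n : ℕ) :
    Nat.card {g : Matrix.GeneralLinearGroup (Fin n) F //
        ∀ i j : Fin n, i < j → (g : Matrix (Fin n) (Fin n) F) i j = 0} =
      (Fintype.card F) ^ (n * (n - 1) / 2) * (Fintype.card F - 1) ^ n := by
  classical
  let S : Fin n → Fin n → Finset F := fun i j =>
    if i < j then {0} else if i = j then Finset.univ.erase 0 else Finset.univ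
  have hS : ∀ i j, (S i j).card =
      if i < j then 1 else if i = j then (Fintype.card F - 1) else Fintype.card F := by
    intro i j
    simp only [S]
    split_ifs
    · simp
    · rw [Finset.card_erase_of_mem (Finset.mem_univ _), Finset.card_univ]
    · rw [Finset.card_univ]
  let T : Finset (Fin n → Fin n → F) := Fintype.piFinset (fun i => Fintype.piFinset (S i))
  have hT : T.card = (Fintype.card F) ^ (n * (n - 1) / 2) * (Fintype.card F - 1) ^ n := by
    rw [Fintype.card_piFinset]
    rw [← prod_lower_count]
    apply Finset.prod_congr rfl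
    intro i _
    rw [Fintype.card_piFinset]
    apply Finset.prod_congr rfl
    intro j _
    exact hS i j
  have hmem : ∀ M : Fin n → Fin n → F, M ∈ T ↔
      ((∀ i j : Fin n, i < j → M i j = 0) ∧ ∀ i, M i i ≠ 0) := by
    intro M
    simp only [T, Fintype.mem_piFinset]
    constructor
    · intro h
      refine ⟨fun i j hij => ?_, fun i => ?_⟩
      · have := h i j
        simp only [S, if_pos hij, Finset.mem_singleton] at this
        exact this
      · have := h i i
        simp only [S, lt_irrefl, if_false, if_true, Finset.mem_erase] at this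
        exact this.1
    · rintro ⟨h1, h2⟩ i j
      simp only [S]
      split_ifs with h3 h4
      · simp [h1 i j h3]
      · subst h4
        simp [h2 i]
      · simp
  rw [← hT, ← Nat.card_eq_finsetCard T]
  apply Nat.card_congr
  refine
    { toFun := fun g => ⟨fun i j => (g.1 : Matrix (Fin n) (Fin n) F) i j, (hmem _).mpr ⟨g.2, ?_⟩⟩
      invFun := fun M => ⟨Matrix.GeneralLinearGroup.mkOfDetNeZero (Matrix.of M.1) ?_, ?_⟩
      left_inv := fun g => ?_
      right_inv := fun M => ?_ }
  · have hdet := det_eq_prod_diag_of_lower (g.1 : Matrix (Fin n) (Fin n) F) g.2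
    have h : IsUnit (g.1 : Matrix (Fin n) (Fin n) F).det :=
      (Matrix.isUnit_iff_isUnit_det _).mp g.1.isUnit
    rw [hdet] at h
    have h0 := h.ne_zero
    rw [Finset.prod_ne_zero_iff] at h0
    exact fun i => h0 i (Finset.mem_univ _)
  · have hM := (hmem M.1).mp M.2
    rw [det_eq_prod_diag_of_lower (Matrix.of M.1) hM.1, Finset.prod_ne_zero_iff]
    exact fun i _ => hM.2 i
  · exact ((hmem M.1).mp M.2).1
  · apply Subtype.ext
    apply Units.ext
    rfl
  · rfl

end Cfsg.Agent.Lib.Helper13
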