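-- helper13: orthonormal bases for Hermitian forms over finite fields.
import Mathlib
import Cfsg.Agent.S0753

set_option autoImplicit false

namespace Cfsg.Agent.Lib.Helper13

open Module

universe u v

section Norm

variable {F : Type u} [Field F]

/-- Hilbert 90 for a field involution. -/
theorem hilbert90_involution (σ : F →+* F) (hσ : σ ≠ RingHom.id F) (hσ2 : ∀ a : F, σ (σ a) = a)
    (a : F) (ha : a * σ a = 1) : ∃ b : F, b ≠ 0 ∧ b = σ b * a := by
  by_cases h1 : a = -1
  · have : ∃ t : F, σ t ≠ t := by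
      by_contra hcon
      push Not at hcon
      apply hσ
      ext t
      exact hcon t
    obtain ⟨t, ht⟩ := this
    refine ⟨t - σ t, fun h => ht (sub_eq_zero.mp h).symm, ?_⟩
    rw [h1, map_sub, hσ2]
    ring
  · refine ⟨1 + a, fun h => h1 (by linear_combination h), ?_⟩
    rw [map_add, map_one]
    linear_combination -ha

/-- The norm of a field involution `σ ≠ id` of a finite field is onto the nonzero fixed
elements. -/
theorem norm_surj_involution [Finite F] (σ : F →+* F) (hσ : σ ≠ RingHom.id F)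
    (hσ2 : ∀ a : F, σ (σ a) = a) (μ : F) (hμ0 : μ ≠ 0) (hμ : σ μ = μ) :
    ∃ c : F, c * σ c = μ := by
  let s : Fˣ →* Fˣ := Units.map σ.toMonoidHom
  have hs : ∀ a : Fˣ, ((s a : Fˣ) : F) = σ (a : F) := fun a => rfl
  have hs2 : ∀ a : Fˣ, s (s a) = a := by
    intro a
    apply Units.ext
    rw [hs, hs, hσ2]
  let N : Fˣ →* Fˣ :=
    { toFun := fun a => a * s a
      map_one' := by simp
      map_mul' := by
        intro a b
        rw [map_mul]
        exact mul_mul_mul_comm a b (s a) (s b) }
  let D : Fˣ →* Fˣ :=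
    { toFun := fun a => a * (s a)⁻¹
      map_one' := by simp
      map_mul' := by
        intro a b
        rw [map_mul, mul_inv]
        exact mul_mul_mul_comm a b (s a)⁻¹ (s b)⁻¹ }
  have hND : N.ker = D.range := by
    ext a
    rw [MonoidHom.mem_ker, MonoidHom.mem_range]
    constructor
    · intro ha
      have ha' : (a : F) * σ (a : F) = 1 := by
        have := congrArg (fun u : Fˣ => (u : F)) ha
        simpa [N, hs] using this
      obtain ⟨b, hb0, hb⟩ := hilbert90_involution σ hσ hσ2 (a : F) ha'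
      refine ⟨Units.mk0 b hb0, ?_⟩
      apply Units.ext
      change (b : F) * ((s (Units.mk0 b hb0) : Fˣ)⁻¹ : Fˣ) = a
      rw [Units.val_inv_eq_inv_val, hs, Units.val_mk0]
      have hσb : σ b ≠ 0 := by
        intro h0
        apply hb0
        rw [hb, h0, zero_mul]
      field_simp
      exact hb
    · rintro ⟨b, rfl⟩
      apply Units.ext
      change ((b * (s b)⁻¹ * s (b * (s b)⁻¹) : Fˣ) : F) = 1
      rw [map_mul, map_inv, hs2]
      simp
  have hcN := Subgroup.card_mul_index N.ker
  have hcD := Subgroup.card_mul_index D.ker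
  rw [Subgroup.index_ker] at hcN hcD
  rw [hND] at hcN
  have hpos : 0 < Nat.card D.range := Nat.card_pos
  have hcard : Nat.card N.range = Nat.card D.ker := by
    have : Nat.card D.range * Nat.card N.range = Nat.card D.range * Nat.card D.ker := by
      rw [hcN, mul_comm, hcD]
    exact Nat.eq_of_mul_eq_mul_left hpos this
  have hle : N.range ≤ D.ker := by
    rintro _ ⟨a, rfl⟩
    rw [MonoidHom.mem_ker]
    apply Units.ext
    change ((a * s a * (s (a * s a))⁻¹ : Fˣ) : F) = 1
    rw [map_mul, hs2, mul_comm (s a) a]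
    simp
  have heq : N.range = D.ker := Subgroup.eq_of_le_of_card_ge hle hcard.ge
  have hmem : Units.mk0 μ hμ0 ∈ D.ker := by
    rw [MonoidHom.mem_ker]
    apply Units.ext
    change (μ : F) * ((s (Units.mk0 μ hμ0) : Fˣ)⁻¹ : Fˣ) = 1
    rw [Units.val_inv_eq_inv_val, hs, Units.val_mk0, hμ]
    exact mul_inv_cancel₀ hμ0
  rw [← heq] at hmem
  obtain ⟨c, hc⟩ := hmem
  refine ⟨(c : F), ?_⟩
  have := congrArg (fun u : Fˣ => (u : F)) hc
  simpa [N, hs] using this

end Norm

section Herm

variable {F : Type u} {V : Type v} [Field F] [AddCommGroup V] [Module F V]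

/-- the projection away from an orthonormal family lands in its orthogonal complement. -/
theorem herm_proj_mem {σ : F →+* F} (B : V →ₛₗ[σ] V →ₗ[F] F) {k : ℕ} (w : Fin k → V)
    (hw : ∀ i j, B (w i) (w j) = if i = j then 1 else 0) (v : V) (j : Fin k) :
    B (w j) (v - ∑ i, B (w i) v • w i) = 0 := by
  rw [map_sub, map_sum]
  have : ∀ i ∈ Finset.univ, B (w j) (B (w i) v • w i) = if j = i then B (w j) v else 0 := by
    intro i _
    rw [map_smul, hw j i, smul_eq_mul]
    split_ifs with h
    · rw [h, mul_one]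
    · rw [mul_zero]
  rw [Finset.sum_congr rfl this, Finset.sum_ite_eq Finset.univ j, if_pos (Finset.mem_univ _),
    sub_self]

/-- extend an orthonormal family by one vector. -/
theorem herm_extend [Finite F] [FiniteDimensional F V] (σ : F →+* F) (hσ : σ ≠ RingHom.id F)
    (hσ2 : ∀ a : F, σ (σ a) = a) (B : V →ₛₗ[σ] V →ₗ[F] F) (hS : B.IsSymm)
    (hB : B.Nondegenerate) {k : ℕ} (w : Fin k → V)
    (hw : ∀ i j, B (w i) (w j) = if i = j then 1 else 0) (hk : k < finrank F V) :
    ∃ u : V, (∀ i, B (w i) u = 0) ∧ B u u = 1 := by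
  -- a nonzero vector orthogonal to the family
  have hex : ∃ x₀ : V, x₀ ≠ 0 ∧ ∀ i, B (w i) x₀ = 0 := by
    by_contra hcon
    push Not at hcon
    have hall : ∀ v : V, v ∈ Submodule.span F (Set.range w) := by
      intro v
      have h0 : v - ∑ i, B (w i) v • w i = 0 := by
        by_contra hne
        obtain ⟨i, hi⟩ := hcon _ hne
        exact hi (herm_proj_mem B w hw v i)
      rw [sub_eq_zero.mp h0]
      apply Submodule.sum_mem
      intro i _
      exact Submodule.smul_mem _ _ (Submodule.subset_span ⟨i, rfl⟩)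
    have htop : Submodule.span F (Set.range w) = ⊤ := by
      rw [eq_top_iff]
      intro v _
      exact hall v
    have h1 := finrank_range_le_card (R := F) w
    rw [Set.finrank, htop, finrank_top, Fintype.card_fin] at h1
    omega
  obtain ⟨x₀, hx₀, hx₀w⟩ := hex
  -- a nonisotropic vector orthogonal to the family
  have hex2 : ∃ x : V, (∀ i, B (w i) x = 0) ∧ B x x ≠ 0 := by
    by_contra hcon
    push Not at hcon
    let U : Submodule F V := ⨅ i, LinearMap.ker (B (w i))
    have hU : ∀ x : V, x ∈ U ↔ ∀ i, B (w i) x = 0 := by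
      intro x
      simp only [U, Submodule.mem_iInf, LinearMap.mem_ker]
    have hzero : B.domRestrict₁₂ U U = 0 := by
      apply Cfsg.Agent.S0753.result σ hσ _ (hS.domRestrict U)
      intro x
      exact hcon x.1 ((hU x.1).mp x.2)
    have hUU : ∀ x y : V, x ∈ U → y ∈ U → B x y = 0 := by
      intro x y hx hy
      have := congrArg (fun f : ↥U →ₛₗ[σ] ↥U →ₗ[F] F => f ⟨x, hx⟩ ⟨y, hy⟩) hzero
      exact this
    apply hx₀
    apply hB.1 x₀
    intro y
    have hy : y = (y - ∑ i, B (w i) y • w i) + ∑ i, B (w i) y • w i := by abel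
    rw [hy, map_add, hUU x₀ _ ((hU x₀).mpr hx₀w) ((hU _).mpr (herm_proj_mem B w hw y)), zero_add,
      map_sum]
    apply Finset.sum_eq_zero
    intro i _
    rw [map_smul, ← hS.eq (w i) x₀, hx₀w i, map_zero, smul_zero]
  obtain ⟨x, hxw, hxx⟩ := hex2
  have hfix : σ (B x x) = B x x := hS.eq x x
  have hfix' : σ (B x x)⁻¹ = (B x x)⁻¹ := by rw [map_inv₀, hfix]
  obtain ⟨c, hc⟩ := norm_surj_involution σ hσ hσ2 (B x x)⁻¹ (inv_ne_zero hxx) hfix'
  refine ⟨c • x, fun i => ?_, ?_⟩
  · rw [map_smul, hxw i, smul_zero]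
  · have h1 : B (c • x) (c • x) = (c * σ c) * B x x := by
      simp only [LinearMap.map_smulₛₗ, LinearMap.smul_apply, RingHom.id_apply, smul_eq_mul]
      ring
    rw [h1, hc]
    exact inv_mul_cancel₀ hxx

theorem herm_family [Finite F] [FiniteDimensional F V] (σ : F →+* F) (hσ : σ ≠ RingHom.id F)
    (hσ2 : ∀ a : F, σ (σ a) = a) (B : V →ₛₗ[σ] V →ₗ[F] F) (hS : B.IsSymm)
    (hB : B.Nondegenerate) (k : ℕ) (hk : k ≤ finrank F V) :
    ∃ w : Fin k → V, ∀ i j, B (w i) (w j) = if i = j then 1 else 0 := by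
  induction k with
  | zero => exact ⟨fun i => i.elim0, fun i => i.elim0⟩
  | succ k ih =>
    obtain ⟨w, hw⟩ := ih (by omega)
    obtain ⟨u, hu1, hu2⟩ := herm_extend σ hσ hσ2 B hS hB w hw (by omega)
    refine ⟨Fin.cons u w, ?_⟩
    intro i j
    induction i using Fin.cases with
    | zero =>
      induction j using Fin.cases with
      | zero =>
        rw [Fin.cons_zero, if_pos rfl]
        exact hu2
      | succ j =>
        rw [Fin.cons_zero, Fin.cons_succ, if_neg (Fin.succ_ne_zero j).symm, ← hS.eq (w j) u,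
          hu1 j, map_zero]
    | succ i =>
      induction j using Fin.cases with
      | zero =>
        rw [Fin.cons_zero, Fin.cons_succ, if_neg (Fin.succ_ne_zero i)]
        exact hu1 i
      | succ j =>
        rw [Fin.cons_succ, Fin.cons_succ, hw i j]
        simp only [Fin.succ_inj]

/-- Hermitian forms over finite fields have orthonormal bases. -/
theorem herm_orthonormal_basis [Finite F] [FiniteDimensional F V] (σ : F →+* F)
    (hσ : σ ≠ RingHom.id F) (hσ2 : ∀ a : F, σ (σ a) = a) (B : V →ₛₗ[σ] V →ₗ[F] F)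
    (hS : B.IsSymm) (hB : B.Nondegenerate) :
    ∃ b : Module.Basis (Fin (finrank F V)) F V, ∀ i j, B (b i) (b j) = if i = j then 1 else 0 := by
  obtain ⟨w, hw⟩ := herm_family σ hσ hσ2 B hS hB (finrank F V) le_rfl
  have hli : LinearIndependent F w := by
    apply LinearMap.linearIndependent_of_isOrthoᵢ (B := B)
    · intro i j hij
      change B (w i) (w j) = 0
      rw [hw i j, if_neg hij]
    · intro i
      rw [hw i i, if_pos rfl]
      exact one_ne_zero
  refine ⟨basisOfLinearIndependentOfCardEqFinrank' w hli (by rw [Fintype.card_fin]), ?_⟩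
  rw [coe_basisOfLinearIndependentOfCardEqFinrank']
  exact hw

end Herm

end Cfsg.Agent.Lib.Helper13
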