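-- helper13: simplicity of PSU_n(q) via Iwasawa's criterion on the isotropic points.
import Mathlib
import Cfsg.Prelude.Def_Classical
import Cfsg.Prelude.Def_ClassicalGeometry
import Cfsg.Agent.Lib.Helper13.SUGen3
import Cfsg.Agent.Lib.Helper13.SU3Transp
import Cfsg.Agent.S0780

set_option autoImplicit false

namespace Cfsg.Agent.Lib.Helper13

open Matrix MulAction Cfsg.Agent.Lib.Helper45 Cfsg.Agent.Lib.Helper44
open scoped LinearAlgebra.Projectivization Pointwise

section PSU

set_option linter.unusedSectionVars false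

variable {F : Type*} [Field F] [Fintype F] {q : ℕ} {n : ℕ}

/-- `SU` as a subgroup of `GL`. -/
def suToGL (n : ℕ) (F : Type*) [Field F] (q : ℕ) :
    ↥(Cfsg.SU n F q) →* Matrix.GeneralLinearGroup (Fin n) F :=
  Matrix.SpecialLinearGroup.toGL.comp (Cfsg.SU n F q).subtype

/-- The action of `SU` on the projective space. -/
@[instance_reducible]
def suMulAction : MulAction ↥(Cfsg.SU n F q) (ℙ F (Fin n → F)) :=
  MulAction.compHom _ (suToGL n F q)

attribute [local instance] suMulAction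

theorem su_mulVec_ne_zero (g : ↥(Cfsg.SU n F q)) {v : Fin n → F} (hv : v ≠ 0) :
    ((g : Matrix.SpecialLinearGroup (Fin n) F) : Matrix (Fin n) (Fin n) F) *ᵥ v ≠ 0 := by
  intro h
  apply hv
  have h1 : ((g⁻¹ : ↥(Cfsg.SU n F q)) : Matrix.SpecialLinearGroup (Fin n) F) *
      (g : Matrix.SpecialLinearGroup (Fin n) F) = 1 := by
    have := congrArg (fun x : ↥(Cfsg.SU n F q) => (x : Matrix.SpecialLinearGroup (Fin n) F))
      (inv_mul_cancel g)
    exact this
  have h2 : (((g⁻¹ : ↥(Cfsg.SU n F q)) : Matrix.SpecialLinearGroup (Fin n) F) :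
      Matrix (Fin n) (Fin n) F) *
      ((g : Matrix.SpecialLinearGroup (Fin n) F) : Matrix (Fin n) (Fin n) F) = 1 := by
    have := congrArg (fun x : Matrix.SpecialLinearGroup (Fin n) F =>
      (x : Matrix (Fin n) (Fin n) F)) h1
    exact this
  have h3 := congrArg (fun w => (((g⁻¹ : ↥(Cfsg.SU n F q)) :
    Matrix.SpecialLinearGroup (Fin n) F) : Matrix (Fin n) (Fin n) F) *ᵥ w) h
  simp only [Matrix.mulVec_mulVec, h2, Matrix.one_mulVec, Matrix.mulVec_zero] at h3
  exact h3

theorem su_smul_mk (g : ↥(Cfsg.SU n F q)) (v : Fin n → F) (hv : v ≠ 0) :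
    g • (Projectivization.mk F v hv) = Projectivization.mk F
      (((g : Matrix.SpecialLinearGroup (Fin n) F) : Matrix (Fin n) (Fin n) F) *ᵥ v)
      (su_mulVec_ne_zero g hv) :=
  rfl

theorem herm_iso_mk_iff (v : Fin n → F) (hv : v ≠ 0) :
    Cfsg.hermForm n F q (Projectivization.mk F v hv).rep (Projectivization.mk F v hv).rep = 0 ↔
      Cfsg.hermForm n F q v v = 0 := by
  obtain ⟨a, ha⟩ := Projectivization.exists_smul_eq_mk_rep F v hv
  rw [← ha]
  have h1 : (a • v : Fin n → F) = (a : F) • v := rfl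
  rw [h1, herm_smul_left, herm_smul_right]
  constructor
  · intro h
    rcases mul_eq_zero.mp h with h2 | h2
    · exact absurd h2 a.ne_zero
    · rcases mul_eq_zero.mp h2 with h3 | h3
      · exact absurd h3 (pow_ne_zero _ a.ne_zero)
      · exact h3
  · intro h
    rw [h, mul_zero, mul_zero]

/-- The isotropic points, as an invariant subset of the projective space. -/
def isoPts (n : ℕ) (F : Type*) [Field F] [Fintype F] (q : ℕ) :
    SubMulAction ↥(Cfsg.SU n F q) (ℙ F (Fin n → F)) where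
  carrier := {p | Cfsg.hermForm n F q p.rep p.rep = 0}
  smul_mem' := by
    intro g p hp
    have hp' : Cfsg.hermForm n F q p.rep p.rep = 0 := hp
    have h1 : g • p = Projectivization.mk F
        (((g : Matrix.SpecialLinearGroup (Fin n) F) : Matrix (Fin n) (Fin n) F) *ᵥ p.rep)
        (su_mulVec_ne_zero g p.rep_nonzero) := by
      conv_lhs => rw [← Projectivization.mk_rep p]
      exact su_smul_mk g p.rep p.rep_nonzero
    show Cfsg.hermForm n F q (g • p).rep (g • p).rep = 0
    rw [h1, herm_iso_mk_iff]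
    have h2 : IsHermIso n F q
        ((g : Matrix.SpecialLinearGroup (Fin n) F) : Matrix (Fin n) (Fin n) F) := g.2
    rw [h2, hp']

/-- The isotropic point spanned by an isotropic vector. -/
def isoMk (v : Fin n → F) (hv : v ≠ 0) (hiso : Cfsg.hermForm n F q v v = 0) :
    ↥(isoPts n F q) :=
  ⟨Projectivization.mk F v hv, (herm_iso_mk_iff v hv).mpr hiso⟩

theorem isoPts_exists_rep (P : ↥(isoPts n F q)) :
    ∃ (v : Fin n → F) (hv : v ≠ 0) (hiso : Cfsg.hermForm n F q v v = 0), P = isoMk v hv hiso :=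
  ⟨P.1.rep, P.1.rep_nonzero, P.2, Subtype.ext (Projectivization.mk_rep P.1).symm⟩

theorem su_smul_isoMk (g : ↥(Cfsg.SU n F q)) (v : Fin n → F) (hv : v ≠ 0)
    (hiso : Cfsg.hermForm n F q v v = 0) :
    g • isoMk v hv hiso = isoMk
      (((g : Matrix.SpecialLinearGroup (Fin n) F) : Matrix (Fin n) (Fin n) F) *ᵥ v)
      (su_mulVec_ne_zero g hv) (by
        have h2 : IsHermIso n F q
          ((g : Matrix.SpecialLinearGroup (Fin n) F) : Matrix (Fin n) (Fin n) F) := g.2
        rw [h2, hiso]) :=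
  Subtype.ext rfl

theorem isoMk_eq_iff (v w : Fin n → F) (hv : v ≠ 0) (hw : w ≠ 0)
    (hiv : Cfsg.hermForm n F q v v = 0) (hiw : Cfsg.hermForm n F q w w = 0) :
    isoMk v hv hiv = isoMk w hw hiw ↔ ∃ a : F, a • w = v := by
  rw [← Projectivization.mk_eq_mk_iff' F v w hv hw]
  exact Subtype.ext_iff

theorem isoMk_congr {v w : Fin n → F} (h : v = w) (hv : v ≠ 0) (hw : w ≠ 0)
    (hiv : Cfsg.hermForm n F q v v = 0) (hiw : Cfsg.hermForm n F q w w = 0) :
    isoMk v hv hiv = isoMk w hw hiw := by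
  subst h
  rfl

theorem utransv_zero_left (c : F) : Cfsg.unitaryTransvection n q (0 : Fin n → F) c = 1 := by
  rw [utransv_eq]
  have : hermRank1 q (0 : Fin n → F) 0 = 0 := by
    ext i j
    simp [hermRank1, Matrix.vecMulVec_apply]
  rw [this, smul_zero, add_zero]

/-- The root subgroup of the transvections with centre `v`. -/
def rootSub (hF : Fintype.card F = q ^ 2) (v : Fin n → F) : Subgroup ↥(Cfsg.SU n F q) where
  carrier := {g | Cfsg.hermForm n F q v v ≠ 0 ∨ ∃ c : F, c ^ q = -c ∧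
    ((g : Matrix.SpecialLinearGroup (Fin n) F) : Matrix (Fin n) (Fin n) F) =
      Cfsg.unitaryTransvection n q v c}
  one_mem' := Or.inr ⟨0, by rw [conj_zero hF, neg_zero], (utransv_zero v).symm⟩
  mul_mem' := by
    rintro a b (ha | ⟨c, hc, ha⟩) hb
    · exact Or.inl ha
    · rcases hb with hb | ⟨d, hd, hb⟩
      · exact Or.inl hb
      · by_cases hv : Cfsg.hermForm n F q v v = 0
        · right
          refine ⟨c + d, by rw [conj_add hF, hc, hd]; ring, ?_⟩
          show ((a : Matrix.SpecialLinearGroup (Fin n) F) : Matrix (Fin n) (Fin n) F) *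
            ((b : Matrix.SpecialLinearGroup (Fin n) F) : Matrix (Fin n) (Fin n) F) = _
          rw [ha, hb, utransv_mul v c d hv]
        · exact Or.inl hv
  inv_mem' := by
    rintro a (ha | ⟨c, hc, ha⟩)
    · exact Or.inl ha
    · by_cases hv : Cfsg.hermForm n F q v v = 0
      · right
        have hc' : (-c) ^ q = -(-c) := by rw [conj_neg hF, hc]
        refine ⟨-c, hc', ?_⟩
        have h1 : a * suMk (Cfsg.unitaryTransvection n q v (-c)) (det_utransv v (-c) hv)
            (isHermIso_utransv hF v (-c) hv hc') = 1 := by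
          apply su_ext
          show ((a : Matrix.SpecialLinearGroup (Fin n) F) : Matrix (Fin n) (Fin n) F) *
            Cfsg.unitaryTransvection n q v (-c) = 1
          rw [ha, utransv_mul v c (-c) hv, add_neg_cancel, utransv_zero]
        rw [inv_eq_of_mul_eq_one_right h1]
        rfl
      · exact Or.inl hv

theorem mem_rootSub (hF : Fintype.card F = q ^ 2) (v : Fin n → F)
    (hv : Cfsg.hermForm n F q v v = 0) (g : ↥(Cfsg.SU n F q)) :
    g ∈ rootSub hF v ↔ ∃ c : F, c ^ q = -c ∧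
      ((g : Matrix.SpecialLinearGroup (Fin n) F) : Matrix (Fin n) (Fin n) F) =
        Cfsg.unitaryTransvection n q v c := by
  constructor
  · rintro (h | h)
    · exact absurd hv h
    · exact h
  · intro h
    exact Or.inr h

theorem rootSub_smul (hF : Fintype.card F = q ^ 2) (a : F) (ha : a ≠ 0) (v : Fin n → F)
    (hv : Cfsg.hermForm n F q v v = 0) : rootSub hF (a • v) = rootSub hF v := by
  have hav : Cfsg.hermForm n F q (a • v) (a • v) = 0 := by
    rw [herm_smul_left, herm_smul_right, hv, mul_zero, mul_zero]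
  have hN : a ^ (q + 1) ≠ 0 := pow_ne_zero _ ha
  ext g
  rw [mem_rootSub hF _ hav, mem_rootSub hF _ hv]
  constructor
  · rintro ⟨c, hc, hg⟩
    refine ⟨a ^ (q + 1) * c, ?_, ?_⟩
    · rw [mul_pow, norm_fixed hF, hc]
      ring
    · rw [hg, utransv_smul]
  · rintro ⟨c, hc, hg⟩
    refine ⟨c / a ^ (q + 1), ?_, ?_⟩
    · rw [div_pow, norm_fixed hF, hc]
      ring
    · rw [hg, utransv_smul, mul_div_cancel₀ _ hN]

theorem rootSub_isoMk (hF : Fintype.card F = q ^ 2) (v : Fin n → F) (hv : v ≠ 0)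
    (hiso : Cfsg.hermForm n F q v v = 0) :
    rootSub hF (isoMk v hv hiso : ↥(isoPts n F q)).1.rep = rootSub hF v := by
  obtain ⟨a, ha⟩ := Projectivization.exists_smul_eq_mk_rep F v hv
  have h1 : (isoMk v hv hiso : ↥(isoPts n F q)).1.rep = (a : F) • v := ha.symm
  rw [h1]
  exact rootSub_smul hF (a : F) a.ne_zero v hiso

/-- The Iwasawa structure of `SU_n(q)` on the isotropic points. -/
noncomputable def suIwasawa (hF : Fintype.card F = q ^ 2) (hn : 3 ≤ n)
    (h32 : ¬ (n = 3 ∧ q = 2)) : IwasawaStructure ↥(Cfsg.SU n F q) ↥(isoPts n F q) where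
  T := fun P => rootSub hF P.1.rep
  is_comm := fun P => ⟨⟨by
    rintro ⟨a, ha⟩ ⟨b, hb⟩
    rw [mem_rootSub hF _ P.2] at ha hb
    obtain ⟨c, hc, ha⟩ := ha
    obtain ⟨d, hd, hb⟩ := hb
    apply Subtype.ext
    apply su_ext
    show ((a : Matrix.SpecialLinearGroup (Fin n) F) : Matrix (Fin n) (Fin n) F) *
        ((b : Matrix.SpecialLinearGroup (Fin n) F) : Matrix (Fin n) (Fin n) F) =
      ((b : Matrix.SpecialLinearGroup (Fin n) F) : Matrix (Fin n) (Fin n) F) *
        ((a : Matrix.SpecialLinearGroup (Fin n) F) : Matrix (Fin n) (Fin n) F)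
    rw [ha, hb, utransv_mul _ c d P.2, utransv_mul _ d c P.2, add_comm]⟩⟩
  is_conj := by
    intro g P
    obtain ⟨v, hv, hiso, rfl⟩ := isoPts_exists_rep P
    have hgi : IsHermIso n F q
        ((g : Matrix.SpecialLinearGroup (Fin n) F) : Matrix (Fin n) (Fin n) F) := g.2
    have hgv : Cfsg.hermForm n F q
        (((g : Matrix.SpecialLinearGroup (Fin n) F) : Matrix (Fin n) (Fin n) F) *ᵥ v)
        (((g : Matrix.SpecialLinearGroup (Fin n) F) : Matrix (Fin n) (Fin n) F) *ᵥ v) = 0 := by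
      rw [hgi, hiso]
    show rootSub hF (g • isoMk v hv hiso : ↥(isoPts n F q)).1.rep =
      MulAut.conj g • rootSub hF (isoMk v hv hiso : ↥(isoPts n F q)).1.rep
    rw [su_smul_isoMk, rootSub_isoMk, rootSub_isoMk]
    ext h
    rw [Subgroup.mem_pointwise_smul_iff_inv_smul_mem, mem_rootSub hF _ hgv, mem_rootSub hF _ hiso]
    constructor
    · rintro ⟨c, hc, hh⟩
      refine ⟨c, hc, ?_⟩
      rw [MulAut.smul_def, MulAut.conj_inv_apply]
      have h2 : h * g = g * suMk (Cfsg.unitaryTransvection n q v c) (det_utransv v c hiso)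
          (isHermIso_utransv hF v c hiso hc) := by
        apply su_ext
        show ((h : Matrix.SpecialLinearGroup (Fin n) F) : Matrix (Fin n) (Fin n) F) *
          ((g : Matrix.SpecialLinearGroup (Fin n) F) : Matrix (Fin n) (Fin n) F) =
          ((g : Matrix.SpecialLinearGroup (Fin n) F) : Matrix (Fin n) (Fin n) F) *
            Cfsg.unitaryTransvection n q v c
        rw [hh, utransv_conj hgi v c]
      rw [mul_assoc, h2, inv_mul_cancel_left]
      rfl
    · rintro ⟨c, hc, hh⟩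
      refine ⟨c, hc, ?_⟩
      rw [MulAut.smul_def, MulAut.conj_inv_apply] at hh
      have h2 : g⁻¹ * h * g = suMk (Cfsg.unitaryTransvection n q v c) (det_utransv v c hiso)
          (isHermIso_utransv hF v c hiso hc) := su_ext _ _ hh
      have h3 : h * g = g * suMk (Cfsg.unitaryTransvection n q v c) (det_utransv v c hiso)
          (isHermIso_utransv hF v c hiso hc) := by
        rw [← h2]
        group
      have h4 : ((h : Matrix.SpecialLinearGroup (Fin n) F) : Matrix (Fin n) (Fin n) F) *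
          ((g : Matrix.SpecialLinearGroup (Fin n) F) : Matrix (Fin n) (Fin n) F) =
          ((g : Matrix.SpecialLinearGroup (Fin n) F) : Matrix (Fin n) (Fin n) F) *
            Cfsg.unitaryTransvection n q v c := by
        have := congrArg (fun x : ↥(Cfsg.SU n F q) =>
          ((x : Matrix.SpecialLinearGroup (Fin n) F) : Matrix (Fin n) (Fin n) F)) h3
        exact this
      rw [utransv_conj hgi v c] at h4
      have hGG' : ((g : Matrix.SpecialLinearGroup (Fin n) F) : Matrix (Fin n) (Fin n) F) *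
          (((g⁻¹ : ↥(Cfsg.SU n F q)) : Matrix.SpecialLinearGroup (Fin n) F) :
            Matrix (Fin n) (Fin n) F) = 1 := by
        have := congrArg (fun x : ↥(Cfsg.SU n F q) =>
          ((x : Matrix.SpecialLinearGroup (Fin n) F) : Matrix (Fin n) (Fin n) F))
          (mul_inv_cancel g)
        exact this
      calc ((h : Matrix.SpecialLinearGroup (Fin n) F) : Matrix (Fin n) (Fin n) F)
          = ((h : Matrix.SpecialLinearGroup (Fin n) F) : Matrix (Fin n) (Fin n) F) *
            (((g : Matrix.SpecialLinearGroup (Fin n) F) : Matrix (Fin n) (Fin n) F) *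
            (((g⁻¹ : ↥(Cfsg.SU n F q)) : Matrix.SpecialLinearGroup (Fin n) F) :
              Matrix (Fin n) (Fin n) F)) := by rw [hGG', Matrix.mul_one]
        _ = (((h : Matrix.SpecialLinearGroup (Fin n) F) : Matrix (Fin n) (Fin n) F) *
            ((g : Matrix.SpecialLinearGroup (Fin n) F) : Matrix (Fin n) (Fin n) F)) *
            (((g⁻¹ : ↥(Cfsg.SU n F q)) : Matrix.SpecialLinearGroup (Fin n) F) :
              Matrix (Fin n) (Fin n) F) := by rw [Matrix.mul_assoc]
        _ = _ := by rw [h4, Matrix.mul_assoc, hGG', Matrix.mul_one]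
  is_generator := by
    rw [eq_top_iff, ← Cfsg.Agent.S0780.result hF n hn h32, Subgroup.closure_le]
    rintro A ⟨w, c, hw, hA⟩
    by_cases hw0 : w = 0
    · have h1 : A = 1 := by
        apply su_ext
        rw [hA, hw0, utransv_zero_left]
        rfl
      rw [h1]
      exact Subgroup.one_mem _
    · have hAi : IsHermIso n F q (Cfsg.unitaryTransvection n q w c) := by
        rw [← hA]
        exact A.2
      have hc := utransv_skew hF w c hw0 hw hAi
      have h1 : A ∈ rootSub hF (isoMk w hw0 hw : ↥(isoPts n F q)).1.rep := by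
        rw [rootSub_isoMk]
        exact (mem_rootSub hF w hw A).mpr ⟨c, hc, hA⟩
      exact Subgroup.mem_iSup_of_mem (isoMk w hw0 hw) h1

/-! ### primitivity -/

theorem exists_isotropic_nonperp (hF : Fintype.card F = q ^ 2) (x y : Fin n → F)
    (hx0 : x ≠ 0) (hy0 : y ≠ 0) (hx : Cfsg.hermForm n F q x x = 0)
    (hxy : Cfsg.hermForm n F q x y = 0) :
    ∃ u : Fin n → F, Cfsg.hermForm n F q u u = 0 ∧ Cfsg.hermForm n F q x u ≠ 0 ∧
      Cfsg.hermForm n F q u y ≠ 0 := by
  classical
  have hq : q ≠ 0 := by have := two_le_q hF; omega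
  obtain ⟨j1, hj1⟩ : ∃ j, x j ≠ 0 := by
    by_contra hcon
    push Not at hcon
    exact hx0 (funext hcon)
  obtain ⟨j2, hj2⟩ : ∃ j, y j ≠ 0 := by
    by_contra hcon
    push Not at hcon
    exact hy0 (funext hcon)
  have h1 : Cfsg.hermForm n F q x (Pi.single j1 1) ≠ 0 := by rwa [herm_single_right hq]
  have h2 : Cfsg.hermForm n F q y (Pi.single j2 1) ≠ 0 := by rwa [herm_single_right hq]
  obtain ⟨e, hxe, hye⟩ : ∃ e : Fin n → F, Cfsg.hermForm n F q x e ≠ 0 ∧
      Cfsg.hermForm n F q y e ≠ 0 := by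
    by_cases h3 : Cfsg.hermForm n F q y (Pi.single j1 1) = 0
    swap
    · exact ⟨_, h1, h3⟩
    by_cases h4 : Cfsg.hermForm n F q x (Pi.single j2 1) = 0
    swap
    · exact ⟨_, h4, h2⟩
    refine ⟨Pi.single j1 1 + Pi.single j2 1, ?_, ?_⟩
    · rw [herm_add_right hF, h4, add_zero]
      exact h1
    · rw [herm_add_right hF, h3, zero_add]
      exact h2
  have hex : Cfsg.hermForm n F q e x = Cfsg.hermForm n F q x e ^ q := (herm_conj hF n x e).symm
  have hey : Cfsg.hermForm n F q e y = Cfsg.hermForm n F q y e ^ q := (herm_conj hF n y e).symm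
  have hee : (-Cfsg.hermForm n F q e e) ^ q = -Cfsg.hermForm n F q e e := by
    rw [conj_neg hF, herm_conj hF]
  obtain ⟨τ, hτ⟩ := exists_trace_eq hF _ hee
  refine ⟨e + (τ / Cfsg.hermForm n F q x e) • x, ?_, ?_, ?_⟩
  · simp only [herm_add_left, herm_add_right hF, herm_smul_left, herm_smul_right, hx, hex,
      mul_zero, add_zero, div_pow]
    have e1 : τ / Cfsg.hermForm n F q x e * Cfsg.hermForm n F q x e = τ := div_mul_cancel₀ _ hxe
    have e2 : τ ^ q / Cfsg.hermForm n F q x e ^ q * Cfsg.hermForm n F q x e ^ q = τ ^ q :=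
      div_mul_cancel₀ _ (pow_ne_zero _ hxe)
    rw [e1, e2]
    linear_combination hτ
  · rw [herm_add_right hF, herm_smul_right, hx, mul_zero, add_zero]
    exact hxe
  · rw [herm_add_left, herm_smul_left, hxy, mul_zero, add_zero, hey]
    exact pow_ne_zero _ hye

theorem exists_isotropic_separating (hF : Fintype.card F = q ^ 2) (x y : Fin n → F)
    (hx0 : x ≠ 0) (hy : Cfsg.hermForm n F q y y = 0) (hxy : Cfsg.hermForm n F q x y = 0)
    (hind : ∀ c : F, y ≠ c • x) :
    ∃ w : Fin n → F, Cfsg.hermForm n F q w w = 0 ∧ Cfsg.hermForm n F q w x = 0 ∧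
      Cfsg.hermForm n F q y w ≠ 0 := by
  classical
  have hq : q ≠ 0 := by have := two_le_q hF; omega
  obtain ⟨j, hj⟩ : ∃ j, x j ≠ 0 := by
    by_contra hcon
    push Not at hcon
    exact hx0 (funext hcon)
  obtain ⟨k, hk⟩ : ∃ k, x j * y k - x k * y j ≠ 0 := by
    by_contra hcon
    push Not at hcon
    apply hind (y j / x j)
    funext k
    have := hcon k
    rw [Pi.smul_apply, smul_eq_mul]
    field_simp
    linear_combination this
  obtain ⟨e, he⟩ : ∃ e : Fin n → F, e = (x k ^ q) • Pi.single j 1 - (x j ^ q) • Pi.single k 1 :=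
    ⟨_, rfl⟩
  have hex : Cfsg.hermForm n F q e x = 0 := by
    rw [he, herm_sub_left, herm_smul_left, herm_smul_left, herm_single_left hF,
      herm_single_left hF]
    ring
  have hey : Cfsg.hermForm n F q e y = -(x j * y k - x k * y j) ^ q := by
    rw [he, herm_sub_left, herm_smul_left, herm_smul_left, herm_single_left hF,
      herm_single_left hF, conj_sub hF, mul_pow, mul_pow]
    ring
  have hey0 : Cfsg.hermForm n F q e y ≠ 0 := by
    rw [hey]
    exact neg_ne_zero.mpr (pow_ne_zero _ hk)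
  have hye : Cfsg.hermForm n F q y e ≠ 0 := by
    rw [← herm_conj hF]
    exact pow_ne_zero _ hey0
  have hey' : Cfsg.hermForm n F q e y = Cfsg.hermForm n F q y e ^ q := (herm_conj hF n y e).symm
  have hyx : Cfsg.hermForm n F q y x = 0 := by rw [← herm_conj hF, hxy, conj_zero hF]
  have hee : (-Cfsg.hermForm n F q e e) ^ q = -Cfsg.hermForm n F q e e := by
    rw [conj_neg hF, herm_conj hF]
  obtain ⟨τ, hτ⟩ := exists_trace_eq hF _ hee
  refine ⟨e + (τ / Cfsg.hermForm n F q y e) • y, ?_, ?_, ?_⟩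
  · simp only [herm_add_left, herm_add_right hF, herm_smul_left, herm_smul_right, hy, hey',
      mul_zero, add_zero, div_pow]
    have e1 : τ / Cfsg.hermForm n F q y e * Cfsg.hermForm n F q y e = τ := div_mul_cancel₀ _ hye
    have e2 : τ ^ q / Cfsg.hermForm n F q y e ^ q * Cfsg.hermForm n F q y e ^ q = τ ^ q :=
      div_mul_cancel₀ _ (pow_ne_zero _ hye)
    rw [e1, e2]
    linear_combination hτ
  · rw [herm_add_left, herm_smul_left, hex, hyx, mul_zero, add_zero]
  · rw [herm_add_right hF, herm_smul_right, hy, mul_zero, add_zero]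
    exact hye

theorem su_isoPts_pretransitive (hF : Fintype.card F = q ^ 2) (hn : 3 ≤ n) :
    IsPretransitive ↥(Cfsg.SU n F q) ↥(isoPts n F q) := by
  constructor
  intro P Q
  obtain ⟨x, hx0, hx, rfl⟩ := isoPts_exists_rep P
  obtain ⟨y, hy0, hy, rfl⟩ := isoPts_exists_rep Q
  obtain ⟨G, hG, hGdet, hGx⟩ := exists_hermIso_det_one_map hF hn x y hx0 hy0 hx hy
  refine ⟨suMk G hGdet hG, ?_⟩
  rw [su_smul_isoMk]
  exact isoMk_congr hGx _ _ _ _

theorem su_block_claim1 (hF : Fintype.card F = q ^ 2) {B : Set ↥(isoPts n F q)}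
    (hB : ∀ ⦃g : ↥(Cfsg.SU n F q)⦄ ⦃a : ↥(isoPts n F q)⦄, a ∈ B → g • a ∈ B → g • B = B)
    (x y : Fin n → F) (hx0 : x ≠ 0) (hy0 : y ≠ 0) (hx : Cfsg.hermForm n F q x x = 0)
    (hy : Cfsg.hermForm n F q y y = 0) (hxB : isoMk x hx0 hx ∈ B) (hyB : isoMk y hy0 hy ∈ B)
    (hxy : Cfsg.hermForm n F q x y ≠ 0) (z : Fin n → F) (hz0 : z ≠ 0)
    (hz : Cfsg.hermForm n F q z z = 0) (hxz : Cfsg.hermForm n F q x z ≠ 0) :
    isoMk z hz0 hz ∈ B := by
  have hyx : Cfsg.hermForm n F q y x ≠ 0 := by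
    rw [← herm_conj hF]
    exact pow_ne_zero _ hxy
  have hzx : Cfsg.hermForm n F q z x ≠ 0 := by
    rw [← herm_conj hF]
    exact pow_ne_zero _ hxz
  obtain ⟨μ, hμ⟩ : ∃ μ : F, μ = Cfsg.hermForm n F q y x / Cfsg.hermForm n F q z x := ⟨_, rfl⟩
  have hz'x : Cfsg.hermForm n F q (μ • z) x = Cfsg.hermForm n F q y x := by
    rw [herm_smul_left, hμ, div_mul_cancel₀ _ hzx]
  have hz'z' : Cfsg.hermForm n F q (μ • z) (μ • z) = 0 := by
    rw [herm_smul_left, herm_smul_right, hz, mul_zero, mul_zero]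
  obtain ⟨w, c, hwv, hc, hE1, hE2⟩ := siegel_map hF x y (μ • z) (Cfsg.hermForm n F q y x) hyx hx
    rfl hz'x (by rw [hy, hz'z'])
  have hxw : Cfsg.hermForm n F q x w = 0 := by rw [← herm_conj hF, hwv, conj_zero hF]
  obtain ⟨g, hg⟩ : ∃ g : ↥(Cfsg.SU n F q), g = suMk (siegel q x w c)
      (det_siegel x w c hx hwv hxw) (isHermIso_siegel hF x w c hx hwv hc) := ⟨_, rfl⟩
  have hgm : ((g : Matrix.SpecialLinearGroup (Fin n) F) : Matrix (Fin n) (Fin n) F) =
      siegel q x w c := by rw [hg]; rfl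
  have hgx : g • isoMk x hx0 hx = isoMk x hx0 hx := by
    rw [su_smul_isoMk]
    exact isoMk_congr (by rw [hgm, hE2]) _ _ _ _
  have hgB : g • B = B := hB hxB (by rw [hgx]; exact hxB)
  have hmem : g • isoMk y hy0 hy ∈ g • B := Set.smul_mem_smul_set hyB
  rw [hgB, su_smul_isoMk] at hmem
  have key : ∀ (h1 : ((g : Matrix.SpecialLinearGroup (Fin n) F) :
      Matrix (Fin n) (Fin n) F) *ᵥ y ≠ 0)
      (h2 : Cfsg.hermForm n F q (((g : Matrix.SpecialLinearGroup (Fin n) F) :
        Matrix (Fin n) (Fin n) F) *ᵥ y) (((g : Matrix.SpecialLinearGroup (Fin n) F) :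
        Matrix (Fin n) (Fin n) F) *ᵥ y) = 0),
      isoMk _ h1 h2 ∈ B → isoMk z hz0 hz ∈ B := by
    intro h1 h2 hm
    have heq : isoMk _ h1 h2 = isoMk z hz0 hz := by
      rw [isoMk_eq_iff]
      exact ⟨μ, by rw [hgm, hE1]⟩
    rwa [heq] at hm
  exact key _ _ hmem

theorem su_block_claim2 (hF : Fintype.card F = q ^ 2) {B : Set ↥(isoPts n F q)}
    (hB : ∀ ⦃g : ↥(Cfsg.SU n F q)⦄ ⦃a : ↥(isoPts n F q)⦄, a ∈ B → g • a ∈ B → g • B = B)
    (x y : Fin n → F) (hx0 : x ≠ 0) (hy0 : y ≠ 0) (hx : Cfsg.hermForm n F q x x = 0)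
    (hy : Cfsg.hermForm n F q y y = 0) (hxB : isoMk x hx0 hx ∈ B) (hyB : isoMk y hy0 hy ∈ B)
    (hxy : Cfsg.hermForm n F q x y ≠ 0) : B = Set.univ := by
  rw [Set.eq_univ_iff_forall]
  intro P
  obtain ⟨z, hz0, hz, rfl⟩ := isoPts_exists_rep P
  by_cases hxz : Cfsg.hermForm n F q x z ≠ 0
  · exact su_block_claim1 hF hB x y hx0 hy0 hx hy hxB hyB hxy z hz0 hz hxz
  · push Not at hxz
    obtain ⟨w, hw, hxw, hwz⟩ := exists_isotropic_nonperp hF x z hx0 hz0 hx hxz
    have hw0 : w ≠ 0 := by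
      rintro rfl
      exact hxw (herm_zero_right hF n x)
    have hwB := su_block_claim1 hF hB x y hx0 hy0 hx hy hxB hyB hxy w hw0 hw hxw
    have hwx : Cfsg.hermForm n F q w x ≠ 0 := by
      rw [← herm_conj hF]
      exact pow_ne_zero _ hxw
    exact su_block_claim1 hF hB w x hw0 hx0 hw hx hwB hxB hwx z hz0 hz hwz

theorem su_block_claim3 (hF : Fintype.card F = q ^ 2) {B : Set ↥(isoPts n F q)}
    (hB : ∀ ⦃g : ↥(Cfsg.SU n F q)⦄ ⦃a : ↥(isoPts n F q)⦄, a ∈ B → g • a ∈ B → g • B = B)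
    (x y : Fin n → F) (hx0 : x ≠ 0) (hy0 : y ≠ 0) (hx : Cfsg.hermForm n F q x x = 0)
    (hy : Cfsg.hermForm n F q y y = 0) (hxB : isoMk x hx0 hx ∈ B) (hyB : isoMk y hy0 hy ∈ B)
    (hne : isoMk x hx0 hx ≠ isoMk y hy0 hy) : B = Set.univ := by
  by_cases hxy : Cfsg.hermForm n F q x y ≠ 0
  · exact su_block_claim2 hF hB x y hx0 hy0 hx hy hxB hyB hxy
  · push Not at hxy
    have hind : ∀ c : F, y ≠ c • x := by
      intro c hc
      apply hne
      rw [isoMk_eq_iff]
      have hc0 : c ≠ 0 := by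
        rintro rfl
        rw [zero_smul] at hc
        exact hy0 hc
      exact ⟨c⁻¹, by rw [hc, smul_smul, inv_mul_cancel₀ hc0, one_smul]⟩
    obtain ⟨w, hw, hwx, hyw⟩ := exists_isotropic_separating hF x y hx0 hy hxy hind
    obtain ⟨i, hi0, hi⟩ := exists_skew hF
    have hxw : Cfsg.hermForm n F q x w = 0 := by rw [← herm_conj hF, hwx, conj_zero hF]
    obtain ⟨g, hg⟩ : ∃ g : ↥(Cfsg.SU n F q), g = suMk (Cfsg.unitaryTransvection n q w i)
        (det_utransv w i hw) (isHermIso_utransv hF w i hw hi) := ⟨_, rfl⟩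
    have hgm : ((g : Matrix.SpecialLinearGroup (Fin n) F) : Matrix (Fin n) (Fin n) F) =
        Cfsg.unitaryTransvection n q w i := by rw [hg]; rfl
    have hgx : ((g : Matrix.SpecialLinearGroup (Fin n) F) : Matrix (Fin n) (Fin n) F) *ᵥ x = x := by
      rw [hgm, utransv_mulVec, hxw, mul_zero, zero_smul, add_zero]
    have hgy : ((g : Matrix.SpecialLinearGroup (Fin n) F) : Matrix (Fin n) (Fin n) F) *ᵥ y =
        y + (i * Cfsg.hermForm n F q y w) • w := by
      rw [hgm, utransv_mulVec]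
    have hgxP : g • isoMk x hx0 hx = isoMk x hx0 hx := by
      rw [su_smul_isoMk]
      exact isoMk_congr hgx _ _ _ _
    have hgB : g • B = B := hB hxB (by rw [hgxP]; exact hxB)
    have hmem : g • isoMk y hy0 hy ∈ g • B := Set.smul_mem_smul_set hyB
    rw [hgB, su_smul_isoMk] at hmem
    have hform : Cfsg.hermForm n F q y
        (((g : Matrix.SpecialLinearGroup (Fin n) F) : Matrix (Fin n) (Fin n) F) *ᵥ y) ≠ 0 := by
      rw [hgy, herm_add_right hF, herm_smul_right, hy, zero_add]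
      exact mul_ne_zero (pow_ne_zero _ (mul_ne_zero hi0 hyw)) hyw
    exact su_block_claim2 hF hB y _ hy0 _ hy _ hyB hmem hform

/-- `SU_n(q)`, `n ≥ 3`, acts primitively on the isotropic points. -/
theorem su_isoPts_preprimitive (hF : Fintype.card F = q ^ 2) (hn : 3 ≤ n) :
    IsPreprimitive ↥(Cfsg.SU n F q) ↥(isoPts n F q) := by
  have := su_isoPts_pretransitive (F := F) (q := q) (n := n) hF hn
  refine ⟨fun {B} hB => ?_⟩
  rw [isBlock_iff_smul_eq_of_mem] at hB
  by_cases hsub : B.Subsingleton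
  · exact Or.inl hsub
  · right
    rw [Set.not_subsingleton_iff] at hsub
    obtain ⟨P, hP, Q, hQ, hPQ⟩ := hsub
    obtain ⟨x, hx0, hx, rfl⟩ := isoPts_exists_rep P
    obtain ⟨y, hy0, hy, rfl⟩ := isoPts_exists_rep Q
    exact su_block_claim3 hF hB x y hx0 hy0 hx hy hP hQ hPQ

/-! ### the kernel, perfectness, simplicity -/

/-- an element of `SU` that fixes every isotropic point is central. -/
theorem su_mem_center_of_fixes (hF : Fintype.card F = q ^ 2) (hn : 3 ≤ n)
    (h32 : ¬ (n = 3 ∧ q = 2)) (g : ↥(Cfsg.SU n F q))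
    (hg : ∀ P : ↥(isoPts n F q), g • P = P) : g ∈ Subgroup.center ↥(Cfsg.SU n F q) := by
  classical
  have hgi : IsHermIso n F q
      ((g : Matrix.SpecialLinearGroup (Fin n) F) : Matrix (Fin n) (Fin n) F) := g.2
  have heig : ∀ v : Fin n → F, v ≠ 0 → Cfsg.hermForm n F q v v = 0 → ∃ l : F,
      ((g : Matrix.SpecialLinearGroup (Fin n) F) : Matrix (Fin n) (Fin n) F) *ᵥ v = l • v := by
    intro v hv0 hv
    have h1 := hg (isoMk v hv0 hv)
    rw [su_smul_isoMk, isoMk_eq_iff] at h1
    obtain ⟨a, ha⟩ := h1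
    exact ⟨a, ha.symm⟩
  have hnorm : ∀ v : Fin n → F, v ≠ 0 → Cfsg.hermForm n F q v v = 0 → ∀ l : F,
      ((g : Matrix.SpecialLinearGroup (Fin n) F) : Matrix (Fin n) (Fin n) F) *ᵥ v = l • v →
      l ^ (q + 1) = 1 := by
    intro v hv0 hv l hl
    obtain ⟨u, hu, hvu, huv⟩ := exists_hyp_partner hF v hv0 hv
    have hu0 : u ≠ 0 := by
      rintro rfl
      rw [herm_zero_right hF] at hvu
      exact zero_ne_one hvu
    obtain ⟨μ, hμ⟩ := heig u hu0 hu
    obtain ⟨i, hi0, hi⟩ := exists_skew hF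
    have hx' : Cfsg.hermForm n F q (v + i • u) (v + i • u) = 0 := by
      simp only [herm_add_left, herm_add_right hF, herm_smul_left, herm_smul_right, hv, hu, hvu,
        huv]
      linear_combination hi
    have hx'0 : v + i • u ≠ 0 := by
      intro h0
      have h6 : Cfsg.hermForm n F q (v + i • u) u = 1 := by
        rw [herm_add_left, herm_smul_left, hvu, hu]
        ring
      rw [h0, herm_zero_left hF] at h6
      exact zero_ne_one h6
    obtain ⟨ν, hν⟩ := heig _ hx'0 hx'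
    rw [Matrix.mulVec_add, Matrix.mulVec_smul, hl, hμ] at hν
    have e1 : l = ν := by
      have h7 := congrArg (fun w => Cfsg.hermForm n F q w u) hν
      simp only [herm_add_left, herm_smul_left, hvu, hu] at h7
      linear_combination h7
    have e2 : μ = ν := by
      have h7 := congrArg (fun w => Cfsg.hermForm n F q w v) hν
      simp only [herm_add_left, herm_smul_left, hv, huv] at h7
      have h3 : i * (μ - ν) = 0 := by linear_combination h7
      rcases mul_eq_zero.mp h3 with h4 | h4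
      · exact absurd h4 hi0
      · linear_combination h4
    have h5 := hgi v u
    rw [hl, hμ, herm_smul_left, herm_smul_right, hvu] at h5
    rw [e2, ← e1] at h5
    rw [pow_succ']
    linear_combination h5
  have hcomm : ∀ A : ↥(Cfsg.SU n F q), (∃ (v : Fin n → F) (c : F),
      Cfsg.hermForm n F q v v = 0 ∧
      ((A : Matrix.SpecialLinearGroup (Fin n) F) : Matrix (Fin n) (Fin n) F) =
        Cfsg.unitaryTransvection n q v c) → A * g = g * A := by
    rintro A ⟨v, c, hv, hA⟩
    apply su_ext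
    show ((A : Matrix.SpecialLinearGroup (Fin n) F) : Matrix (Fin n) (Fin n) F) *
        ((g : Matrix.SpecialLinearGroup (Fin n) F) : Matrix (Fin n) (Fin n) F) =
      ((g : Matrix.SpecialLinearGroup (Fin n) F) : Matrix (Fin n) (Fin n) F) *
        ((A : Matrix.SpecialLinearGroup (Fin n) F) : Matrix (Fin n) (Fin n) F)
    rw [hA]
    by_cases hv0 : v = 0
    · rw [hv0, utransv_zero_left, Matrix.one_mul, Matrix.mul_one]
    · obtain ⟨l, hl⟩ := heig v hv0 hv
      have hl1 := hnorm v hv0 hv l hl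
      rw [utransv_conj hgi v c, hl, utransv_smul, hl1, one_mul]
  rw [Subgroup.mem_center_iff]
  intro h
  have hh : h ∈ Subgroup.closure {A : ↥(Cfsg.SU n F q) | ∃ (v : Fin n → F) (c : F),
      Cfsg.hermForm n F q v v = 0 ∧
      ((A : Matrix.SpecialLinearGroup (Fin n) F) : Matrix (Fin n) (Fin n) F) =
        Cfsg.unitaryTransvection n q v c} := by
    rw [Cfsg.Agent.S0780.result hF n hn h32]
    exact Subgroup.mem_top h
  induction hh using Subgroup.closure_induction with
  | mem A hA => exact hcomm A hA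
  | one => rw [one_mul, mul_one]
  | mul a b _ _ ha hb => rw [mul_assoc, hb, ← mul_assoc, ha, mul_assoc]
  | inv a _ ha =>
    rw [inv_mul_eq_iff_eq_mul, ← mul_assoc, ha, mul_assoc, mul_inv_cancel, mul_one]

theorem su_commutator_eq_top (hF : Fintype.card F = q ^ 2) (hn : 3 ≤ n)
    (h32 : ¬ (n = 3 ∧ q = 2)) : commutator ↥(Cfsg.SU n F q) = ⊤ := by
  have hq := two_le_q hF
  have hn' : 4 ≤ n ∨ (n = 3 ∧ 3 ≤ q) := by
    by_cases h4 : 4 ≤ n
    · exact Or.inl h4
    · right
      refine ⟨by omega, ?_⟩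
      by_contra hq3
      apply h32
      exact ⟨by omega, by omega⟩
  rw [eq_top_iff, ← Cfsg.Agent.S0780.result hF n hn h32, commutator_eq_closure]
  apply Subgroup.closure_mono
  rintro A ⟨v, c, hv, hA⟩
  exact utransv_mem_commutatorSet hF n hn' A v c hv hA

theorem su_exists_ne_one (hF : Fintype.card F = q ^ 2) (hn : 2 ≤ n) :
    ∃ g : ↥(Cfsg.SU n F q), g ≠ 1 := by
  classical
  obtain ⟨v, hv0, hv⟩ := exists_isotropic_ne_zero (n := n) hF hn
  obtain ⟨i, hi0, hi⟩ := exists_skew hF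
  refine ⟨suMk (Cfsg.unitaryTransvection n q v i) (det_utransv v i hv)
    (isHermIso_utransv hF v i hv hi), fun h => ?_⟩
  have h1 : Cfsg.unitaryTransvection n q v i = 1 := by
    have := congrArg (fun x : ↥(Cfsg.SU n F q) =>
      ((x : Matrix.SpecialLinearGroup (Fin n) F) : Matrix (Fin n) (Fin n) F)) h
    exact this
  obtain ⟨j, hj⟩ : ∃ j, v j ≠ 0 := by
    by_contra hcon
    push Not at hcon
    exact hv0 (funext hcon)
  have h3 := congrArg (fun M : Matrix (Fin n) (Fin n) F => M *ᵥ (Pi.single j 1)) h1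
  simp only [utransv_mulVec, Matrix.one_mulVec, herm_single_left hF] at h3
  have h5 : (i * v j ^ q) • v = 0 := by
    have h6 : Pi.single j 1 + (i * v j ^ q) • v - Pi.single j 1 = (0 : Fin n → F) := by
      rw [h3, sub_self]
    rw [add_sub_cancel_left] at h6
    exact h6
  rcases smul_eq_zero.mp h5 with h7 | h7
  · exact (mul_ne_zero hi0 (pow_ne_zero _ hj)) h7
  · exact hv0 h7

theorem su_normal_le_center_or_eq_top (hF : Fintype.card F = q ^ 2) (hn : 3 ≤ n)
    (h32 : ¬ (n = 3 ∧ q = 2)) (hperf : commutator ↥(Cfsg.SU n F q) = ⊤)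
    (N : Subgroup ↥(Cfsg.SU n F q)) [N.Normal] :
    N ≤ Subgroup.center ↥(Cfsg.SU n F q) ∨ N = ⊤ := by
  have := su_isoPts_preprimitive (F := F) (q := q) (n := n) hF hn
  by_cases hfix : fixedPoints N ↥(isoPts n F q) = Set.univ
  · left
    intro g hg
    apply su_mem_center_of_fixes hF hn h32
    intro P
    have hp : P ∈ fixedPoints N ↥(isoPts n F q) := hfix ▸ Set.mem_univ P
    exact hp ⟨g, hg⟩
  · right
    have h1 := (suIwasawa hF hn h32).commutator_le N hfix
    rw [hperf] at h1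
    exact top_le_iff.1 h1

/-- `PSU_n(q)` is simple for `n ≥ 3`, `(n, q) ≠ (3, 2)`. -/
theorem psu_isSimpleGroup (hF : Fintype.card F = q ^ 2) (n : ℕ) (hn : 3 ≤ n)
    (h32 : ¬ (n = 3 ∧ q = 2)) : IsSimpleGroup (Cfsg.PSU n F q) := by
  have hperf := su_commutator_eq_top (F := F) hF hn h32
  have hcne : Subgroup.center ↥(Cfsg.SU n F q) ≠ ⊤ := by
    intro hc
    obtain ⟨g, hg⟩ := su_exists_ne_one (F := F) (n := n) hF (by omega)
    have h1 : commutator ↥(Cfsg.SU n F q) = ⊥ := (commutator_eq_bot_iff_center_eq_top _).2 hc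
    rw [hperf] at h1
    have h2 : g ∈ (⊤ : Subgroup ↥(Cfsg.SU n F q)) := Subgroup.mem_top g
    rw [h1, Subgroup.mem_bot] at h2
    exact hg h2
  have hnt : Nontrivial (Cfsg.PSU n F q) := QuotientGroup.nontrivial_iff.2 hcne
  refine { toNontrivial := hnt, eq_bot_or_eq_top_of_normal := fun H hH => ?_ }
  have hN : (H.comap (QuotientGroup.mk' (Subgroup.center ↥(Cfsg.SU n F q)))).Normal :=
    hH.comap _
  rcases su_normal_le_center_or_eq_top hF hn h32 hperf
    (H.comap (QuotientGroup.mk' (Subgroup.center ↥(Cfsg.SU n F q)))) with h1 | h1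
  · left
    rw [eq_bot_iff]
    intro x hx
    obtain ⟨g, rfl⟩ := QuotientGroup.mk_surjective x
    have hg : g ∈ Subgroup.center ↥(Cfsg.SU n F q) := h1 hx
    rw [Subgroup.mem_bot]
    exact (QuotientGroup.eq_one_iff g).2 hg
  · right
    rw [eq_top_iff]
    intro x _
    obtain ⟨g, rfl⟩ := QuotientGroup.mk_surjective x
    have hg : g ∈ H.comap (QuotientGroup.mk' (Subgroup.center ↥(Cfsg.SU n F q))) := by
      rw [h1]
      exact Subgroup.mem_top g
    exact hg

end PSU

end Cfsg.Agent.Lib.Helper13
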