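-- helper13: order of the maximal parabolic subgroups of GL_n(q).
import Mathlib
import Cfsg.Prelude.Def_ClassicalGeometry
import Cfsg.Agent.Lib.Helper13.GLCount
import Cfsg.Agent.Lib.Helper13.Blocks

set_option autoImplicit false

namespace Cfsg.Agent.Lib.Helper13

open Matrix

universe u

/-- Block upper triangular invertible matrices, as a product. -/
noncomputable def blockUpperEquiv {α β : Type} [Fintype α] [Fintype β] [DecidableEq α]
    [DecidableEq β] {F : Type u} [Field F] :
    {M : Matrix (α ⊕ β) (α ⊕ β) F // M.det ≠ 0 ∧ M.toBlocks₂₁ = 0} ≃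
      {A : Matrix α α F // A.det ≠ 0} × Matrix α β F × {D : Matrix β β F // D.det ≠ 0} where
  toFun M := (⟨M.1.toBlocks₁₁, by
      intro h0
      apply M.2.1
      rw [det_toBlocks_of_toBlocks₂₁ M.1 M.2.2, h0, zero_mul]⟩, M.1.toBlocks₁₂,
    ⟨M.1.toBlocks₂₂, by
      intro h0
      apply M.2.1
      rw [det_toBlocks_of_toBlocks₂₁ M.1 M.2.2, h0, mul_zero]⟩)
  invFun P := ⟨fromBlocks P.1.1 P.2.1 0 P.2.2.1, by
      rw [det_fromBlocks_zero₂₁]
      exact mul_ne_zero P.1.2 P.2.2.2, rfl⟩
  left_inv M := by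
    apply Subtype.ext
    have := fromBlocks_toBlocks M.1
    rw [M.2.2] at this
    exact this
  right_inv P := rfl

theorem card_detNeZero {F : Type u} [Field F] [Fintype F] (k : ℕ) :
    Nat.card {A : Matrix (Fin k) (Fin k) F // A.det ≠ 0} =
      ∏ i : Fin k, ((Fintype.card F) ^ k - (Fintype.card F) ^ (i : ℕ)) := by
  rw [← Matrix.card_GL_field]
  exact (Nat.card_congr glEquivDetNeZero).symm

theorem card_blockUpper {F : Type u} [Field F] [Fintype F] (a b : ℕ) :
    Nat.card {M : Matrix (Fin a ⊕ Fin b) (Fin a ⊕ Fin b) F // M.det ≠ 0 ∧ M.toBlocks₂₁ = 0} =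
      (Fintype.card F) ^ (a * b) *
        (∏ i : Fin a, ((Fintype.card F) ^ a - (Fintype.card F) ^ (i : ℕ))) *
        ∏ i : Fin b, ((Fintype.card F) ^ b - (Fintype.card F) ^ (i : ℕ)) := by
  rw [Nat.card_congr blockUpperEquiv, Nat.card_prod, Nat.card_prod, card_detNeZero,
    card_detNeZero]
  have : Nat.card (Matrix (Fin a) (Fin b) F) = (Fintype.card F) ^ (a * b) := by
    have h : Nat.card (Fin a → Fin b → F) = (Fintype.card F) ^ (a * b) := by
      rw [Nat.card_eq_fintype_card, Fintype.card_fun, Fintype.card_fun, Fintype.card_fin,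
        Fintype.card_fin, ← pow_mul, mul_comm]
    exact h
  rw [this]
  ring

/-- Transport of a stabilising condition along a reindexing. -/
theorem stab_submatrix_iff {ι ι' : Type} [Fintype ι] [Fintype ι'] [DecidableEq ι]
    [DecidableEq ι'] {F : Type u} [Field F] (e : ι' ≃ ι) (M : Matrix ι ι F) (S : Set (ι → F)) :
    (∀ v : ι → F, v ∈ S ↔ M *ᵥ v ∈ S) ↔
      (∀ w : ι' → F, w ∈ {w : ι' → F | w ∘ e.symm ∈ S} ↔
        M.submatrix e e *ᵥ w ∈ {w : ι' → F | w ∘ e.symm ∈ S}) := by
  have key : ∀ w : ι' → F, (M.submatrix e e *ᵥ w) ∘ e.symm = M *ᵥ (w ∘ e.symm) := by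
    intro w
    rw [submatrix_mulVec_equiv]
    ext i
    simp
  constructor
  · intro h w
    simp only [Set.mem_ofPred_eq]
    rw [key]
    exact h _
  · intro h v
    have := h (v ∘ e)
    simp only [Set.mem_ofPred_eq] at this
    rw [key] at this
    have e1 : (v ∘ e) ∘ e.symm = v := by
      ext i
      simp
    rw [e1] at this
    exact this

/-- the reindexing `Fin k ⊕ Fin (n - k) ≃ Fin n`. -/
def splitEquiv {n k : ℕ} (hk : k ≤ n) : Fin k ⊕ Fin (n - k) ≃ Fin n :=
  finSumFinEquiv.trans (finCongr (by omega))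

theorem splitEquiv_inl {n k : ℕ} (hk : k ≤ n) (a : Fin k) :
    ((splitEquiv hk (Sum.inl a) : Fin n) : ℕ) = a := by
  simp [splitEquiv]

theorem splitEquiv_inr {n k : ℕ} (hk : k ≤ n) (b : Fin (n - k)) :
    ((splitEquiv hk (Sum.inr b) : Fin n) : ℕ) = k + b := by
  simp [splitEquiv]

theorem split_set {F : Type u} [Field F] {n k : ℕ} (hk : k ≤ n) :
    {w : Fin k ⊕ Fin (n - k) → F | w ∘ (splitEquiv hk).symm ∈
        {v : Fin n → F | ∀ i : Fin n, k ≤ (i : ℕ) → v i = 0}} =
      {w : Fin k ⊕ Fin (n - k) → F | ∀ b : Fin (n - k), w (Sum.inr b) = 0} := by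
  ext w
  simp only [Set.mem_ofPred_eq, Function.comp_apply]
  constructor
  · intro h b
    have := h (splitEquiv hk (Sum.inr b)) (by rw [splitEquiv_inr]; omega)
    rwa [Equiv.symm_apply_apply] at this
  · intro h i hi
    rcases hc : (splitEquiv hk).symm i with a | b
    · exfalso
      have : i = splitEquiv hk (Sum.inl a) := by
        rw [← hc, Equiv.apply_symm_apply]
      have h2 := splitEquiv_inl hk a
      rw [← this] at h2
      have := a.2
      omega
    · exact h b

/-- the parabolic subgroup as block upper triangular matrices. -/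
noncomputable def parabolicEquiv {F : Type u} [Field F] {n k : ℕ} (hk : k ≤ n) :
    ↥(Cfsg.stabilizing (Cfsg.glToMat (Fin n) F)
        {v : Fin n → F | ∀ i : Fin n, k ≤ (i : ℕ) → v i = 0}) ≃
      {M : Matrix (Fin k ⊕ Fin (n - k)) (Fin k ⊕ Fin (n - k)) F //
        M.det ≠ 0 ∧ M.toBlocks₂₁ = 0} where
  toFun x :=
    have hdet : ((x.1 : Matrix (Fin n) (Fin n) F).submatrix (splitEquiv hk) (splitEquiv hk)).det
        ≠ 0 := by
      rw [det_submatrix_equiv_self]
      exact ((Matrix.isUnit_iff_isUnit_det _).mp x.1.isUnit).ne_zero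
    ⟨(x.1 : Matrix (Fin n) (Fin n) F).submatrix (splitEquiv hk) (splitEquiv hk), hdet, by
      have h := (stab_submatrix_iff (splitEquiv hk) (x.1 : Matrix (Fin n) (Fin n) F) _).mp x.2
      rw [split_set hk] at h
      exact (stab_inr_iff _ hdet).mp h⟩
  invFun M := ⟨Matrix.GeneralLinearGroup.mkOfDetNeZero
      (M.1.submatrix (splitEquiv hk).symm (splitEquiv hk).symm) (by
        rw [det_submatrix_equiv_self]
        exact M.2.1), by
      refine (stab_submatrix_iff (splitEquiv hk) _ _).mpr ?_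
      rw [split_set hk]
      have e1 : (M.1.submatrix (splitEquiv hk).symm (splitEquiv hk).symm).submatrix
          (splitEquiv hk) (splitEquiv hk) = M.1 := by
        ext i j
        simp
      have h := (stab_inr_iff M.1 M.2.1).mpr M.2.2
      rw [← e1] at h
      exact h⟩
  left_inv x := by
    apply Subtype.ext
    apply Units.ext
    ext i j
    simp [Matrix.GeneralLinearGroup.mkOfDetNeZero]
  right_inv M := by
    apply Subtype.ext
    ext i j
    simp [Matrix.GeneralLinearGroup.mkOfDetNeZero]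

theorem card_parabolic {F : Type u} [Field F] [Fintype F] (n k : ℕ) (hk : k ≤ n) :
    Nat.card ↥(Cfsg.stabilizing (Cfsg.glToMat (Fin n) F)
        {v : Fin n → F | ∀ i : Fin n, k ≤ (i : ℕ) → v i = 0}) =
      (Fintype.card F) ^ (k * (n - k)) *
        (∏ i : Fin k, ((Fintype.card F) ^ k - (Fintype.card F) ^ (i : ℕ))) *
        ∏ i : Fin (n - k), ((Fintype.card F) ^ (n - k) - (Fintype.card F) ^ (i : ℕ)) := by
  rw [Nat.card_congr (parabolicEquiv hk), card_blockUpper]

end Cfsg.Agent.Lib.Helper13
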