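-- helper13: a group F normalised by H acting semiregularly on F \ {1} with |F| ≤ 2|H| + 1
-- is elementary abelian.
import Mathlib

set_option autoImplicit false

namespace Cfsg.Agent.Lib.Helper13

theorem orderOf_conj_eq' {G : Type*} [Group G] (x t : G) : orderOf (x * t * x⁻¹) = orderOf t := by
  have h : x * t * x⁻¹ = (MulAut.conj x).toMonoidHom t := by simp
  rw [h, orderOf_injective (MulAut.conj x).toMonoidHom (MulAut.conj x).injective]

/-- From "every non-identity element of F is H-conjugate to `u₀` or `u₀⁻¹`" to elementary abelian. -/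
theorem elementary_of_conj_or_inv {G : Type*} [Group G] [Finite G] (F H : Subgroup G)
    (hnorm : ∀ h ∈ H, ∀ u ∈ F, h * u * h⁻¹ ∈ F)
    (u₀ : G) (hu₀F : u₀ ∈ F) (hu₀ : u₀ ≠ 1)
    (hstar : ∀ v ∈ F, v ≠ 1 → ∃ h ∈ H, v = h * u₀ * h⁻¹ ∨ v = h * u₀⁻¹ * h⁻¹) :
    (∀ u ∈ F, ∀ v ∈ F, u * v = v * u) ∧ ∃ p : ℕ, p.Prime ∧ ∀ u ∈ F, u ^ p = 1 := by
  classical
  have hord : ∀ v ∈ F, v ≠ 1 → orderOf v = orderOf u₀ := by
    intro v hv hv1
    obtain ⟨h, -, h1 | h1⟩ := hstar v hv hv1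
    · rw [h1, orderOf_conj_eq']
    · rw [h1, orderOf_conj_eq', orderOf_inv]
  have ho1 : orderOf u₀ ≠ 1 := fun h => hu₀ (orderOf_eq_one_iff.mp h)
  have ho0 : orderOf u₀ ≠ 0 := (orderOf_pos u₀).ne'
  set p := Nat.minFac (orderOf u₀) with hp
  have hpp : p.Prime := Nat.minFac_prime ho1
  have hpdvd : p ∣ orderOf u₀ := Nat.minFac_dvd _
  have hx : orderOf (u₀ ^ (orderOf u₀ / p)) = p := orderOf_pow_orderOf_div ho0 hpdvd
  have hxF : u₀ ^ (orderOf u₀ / p) ∈ F := F.pow_mem hu₀F _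
  have hx1 : u₀ ^ (orderOf u₀ / p) ≠ 1 := by
    intro h
    rw [h, orderOf_one] at hx
    exact hpp.one_lt.ne hx
  have hop : orderOf u₀ = p := by rw [← hord _ hxF hx1, hx]
  have hexp : ∀ u ∈ F, u ^ p = 1 := by
    intro u hu
    by_cases hu1 : u = 1
    · rw [hu1, one_pow]
    · rw [← hop, ← hord u hu hu1, pow_orderOf_eq_one]
  have : Fact p.Prime := ⟨hpp⟩
  have hPG : IsPGroup p ↥F := by
    intro g
    refine ⟨1, ?_⟩
    rw [pow_one]
    exact Subtype.ext (hexp g.1 g.2)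
  have hnt : Nontrivial ↥F := ⟨⟨⟨u₀, hu₀F⟩, 1, fun h => hu₀ (congrArg Subtype.val h)⟩⟩
  have hcnt := hPG.center_nontrivial
  obtain ⟨⟨z, hzc⟩, hz1⟩ := exists_ne (1 : Subgroup.center ↥F)
  have hzG1 : (z : G) ≠ 1 := by
    intro h
    apply hz1
    apply Subtype.ext
    apply Subtype.ext
    exact h
  have hzcomm : ∀ v ∈ F, (z : G) * v = v * (z : G) := by
    intro v hv
    have := Subgroup.mem_center_iff.mp hzc ⟨v, hv⟩
    have h2 := congrArg Subtype.val this
    exact h2.symm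
  -- conjugation invariance of centrality
  have hconjC : ∀ h ∈ H, ∀ w : G, (∀ v ∈ F, w * v = v * w) →
      ∀ v ∈ F, (h * w * h⁻¹) * v = v * (h * w * h⁻¹) := by
    intro h hh w hw v hv
    have hv' : h⁻¹ * v * h ∈ F := by
      have := hnorm h⁻¹ (H.inv_mem hh) v hv
      rwa [inv_inv] at this
    have e := hw _ hv'
    calc h * w * h⁻¹ * v = h * (w * (h⁻¹ * v * h)) * h⁻¹ := by group
      _ = h * ((h⁻¹ * v * h) * w) * h⁻¹ := by rw [e]
      _ = v * (h * w * h⁻¹) := by group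
  have hinvC : ∀ w : G, (∀ v ∈ F, w * v = v * w) → ∀ v ∈ F, w⁻¹ * v = v * w⁻¹ := by
    intro w hw v hv
    have e := hw v hv
    calc w⁻¹ * v = w⁻¹ * (v * w) * w⁻¹ := by group
      _ = w⁻¹ * (w * v) * w⁻¹ := by rw [e]
      _ = v * w⁻¹ := by group
  have hu₀C : ∀ v ∈ F, u₀ * v = v * u₀ := by
    obtain ⟨h, hh, h1 | h1⟩ := hstar z z.2 hzG1
    · have e : u₀ = h⁻¹ * z * h⁻¹⁻¹ := by rw [h1]; group
      rw [e]
      exact hconjC h⁻¹ (H.inv_mem hh) z hzcomm
    · have e : u₀⁻¹ = h⁻¹ * z * h⁻¹⁻¹ := by rw [h1]; group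
      have h2 := hconjC h⁻¹ (H.inv_mem hh) z hzcomm
      rw [← e] at h2
      have h3 := hinvC _ h2
      rwa [inv_inv] at h3
  refine ⟨?_, p, hpp, hexp⟩
  intro u hu v hv
  by_cases hu1 : u = 1
  · rw [hu1, one_mul, mul_one]
  · obtain ⟨h, hh, h1 | h1⟩ := hstar u hu hu1
    · rw [h1]
      exact hconjC h hh u₀ hu₀C v hv
    · rw [h1]
      exact hconjC h hh u₀⁻¹ (hinvC u₀ hu₀C) v hv

/-- an involution normalising F without non-trivial fixed points inverts F. -/
theorem inverts_of_fixedPointFree' {G : Type*} [Group G] [Finite G] (F : Subgroup G) (t : G)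
    (ht2 : t * t = 1) (hnorm : ∀ u ∈ F, t * u * t⁻¹ ∈ F)
    (hfree : ∀ u ∈ F, t * u * t⁻¹ = u → u = 1) : ∀ u ∈ F, t * u * t⁻¹ = u⁻¹ := by
  have htinv : t⁻¹ = t := inv_eq_of_mul_eq_one_left ht2
  let φ : ↥F → ↥F := fun u => ⟨u.1⁻¹ * (t * u.1 * t⁻¹), F.mul_mem (F.inv_mem u.2) (hnorm u.1 u.2)⟩
  have hφ : Function.Injective φ := by
    intro u v huv
    have h1 : u.1⁻¹ * (t * u.1 * t⁻¹) = v.1⁻¹ * (t * v.1 * t⁻¹) := congrArg Subtype.val huv
    have h2 : t * (v.1 * u.1⁻¹) * t⁻¹ = v.1 * u.1⁻¹ := by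
      have : t * (v.1 * u.1⁻¹) * t⁻¹ = (t * v.1 * t⁻¹) * (t * u.1 * t⁻¹)⁻¹ := by group
      rw [this]
      have h3 : t * v.1 * t⁻¹ = v.1 * (u.1⁻¹ * (t * u.1 * t⁻¹)) := by rw [h1]; group
      rw [h3]
      group
    have h4 := hfree _ (F.mul_mem v.2 (F.inv_mem u.2)) h2
    apply Subtype.ext
    exact (mul_inv_eq_one.mp h4).symm
  have hsurj : Function.Surjective φ := Finite.surjective_of_injective hφ
  intro w hw
  obtain ⟨u, hu⟩ := hsurj ⟨w, hw⟩
  have hw' : w = u.1⁻¹ * (t * u.1 * t⁻¹) := (congrArg Subtype.val hu).symm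
  rw [hw']
  have e1 : t⁻¹ * t⁻¹ = 1 := by rw [← mul_inv_rev, ht2, inv_one]
  calc t * (u.1⁻¹ * (t * u.1 * t⁻¹)) * t⁻¹
      = (t * u.1⁻¹ * t⁻¹) * ((t * t) * u.1 * (t⁻¹ * t⁻¹)) := by group
    _ = (t * u.1⁻¹ * t⁻¹) * u.1 := by rw [ht2, e1, one_mul, mul_one]
    _ = (u.1⁻¹ * (t * u.1 * t⁻¹))⁻¹ := by group

theorem semiregular_elementary {G : Type*} [Group G] [Finite G] (F H : Subgroup G)
    (hnorm : ∀ h ∈ H, ∀ u ∈ F, h * u * h⁻¹ ∈ F)
    (hsemi : ∀ h ∈ H, ∀ u ∈ F, u ≠ 1 → h * u * h⁻¹ = u → h = 1)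
    (hcard : Nat.card F ≤ 2 * Nat.card H + 1) :
    (∀ u ∈ F, ∀ v ∈ F, u * v = v * u) ∧ ∃ p : ℕ, p.Prime ∧ ∀ u ∈ F, u ^ p = 1 := by
  classical
  have : Fintype G := Fintype.ofFinite G
  by_cases htriv : ∀ u ∈ F, u = 1
  · exact ⟨fun u hu v hv => by rw [htriv u hu, htriv v hv], 2, Nat.prime_two,
      fun u hu => by rw [htriv u hu, one_pow]⟩
  push Not at htriv
  obtain ⟨u₁, hu₁F, hu₁⟩ := htriv
  set FF : Finset G := Finset.univ.filter (fun g => g ∈ F) with hFF
  set HF : Finset G := Finset.univ.filter (fun g => g ∈ H) with hHF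
  have hFmem : ∀ g, g ∈ FF ↔ g ∈ F := fun g => by simp [hFF]
  have hHmem : ∀ g, g ∈ HF ↔ g ∈ H := fun g => by simp [hHF]
  have hFcard : Nat.card F = FF.card := by
    rw [Nat.card_eq_fintype_card, Fintype.card_subtype]
  have hHcard : Nat.card H = HF.card := by
    rw [Nat.card_eq_fintype_card, Fintype.card_subtype]
  rw [hFcard, hHcard] at hcard
  have horb_inj : ∀ u ∈ F, u ≠ 1 → Set.InjOn (fun h => h * u * h⁻¹) (HF : Set G) := by
    intro u hu hu1 h hh h' hh' heq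
    have hh := (hHmem h).mp hh
    have hh' := (hHmem h').mp hh'
    have heq' : h * u * h⁻¹ = h' * u * h'⁻¹ := heq
    have e : (h'⁻¹ * h) * u * (h'⁻¹ * h)⁻¹ = u := by
      have : (h'⁻¹ * h) * u * (h'⁻¹ * h)⁻¹ = h'⁻¹ * (h * u * h⁻¹) * h' := by group
      rw [this, heq']
      group
    have := hsemi _ (H.mul_mem (H.inv_mem hh') hh) u hu hu1 e
    exact (inv_mul_eq_one.mp this).symm
  have horb_card : ∀ u ∈ F, u ≠ 1 → (HF.image (fun h => h * u * h⁻¹)).card = HF.card :=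
    fun u hu hu1 => Finset.card_image_of_injOn (horb_inj u hu hu1)
  have horb_sub : ∀ u ∈ F, u ≠ 1 → HF.image (fun h => h * u * h⁻¹) ⊆ FF.erase 1 := by
    intro u hu hu1 w hw
    obtain ⟨h, hh, rfl⟩ := Finset.mem_image.mp hw
    rw [Finset.mem_erase, hFmem]
    refine ⟨?_, hnorm h ((hHmem h).mp hh) u hu⟩
    intro h1
    apply hu1
    have : u = h⁻¹ * (h * u * h⁻¹) * h := by group
    rw [this, h1]
    group
  have h1FF : (1 : G) ∈ FF := (hFmem 1).mpr F.one_mem
  have hFFpos : 0 < FF.card := Finset.card_pos.mpr ⟨1, h1FF⟩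
  rcases Nat.even_or_odd (Nat.card H) with hev | hodd
  · -- even case: an involution of H inverts F
    have : Fact (Nat.Prime 2) := ⟨Nat.prime_two⟩
    obtain ⟨t0, ht0⟩ := exists_prime_orderOf_dvd_card' (G := ↥H) 2 hev.two_dvd
    have ht : orderOf (t0 : G) = 2 := by rw [Subgroup.orderOf_coe]; exact ht0
    have ht1 : (t0 : G) ≠ 1 := by
      intro h
      rw [h, orderOf_one] at ht
      omega
    have ht2 : (t0 : G) * (t0 : G) = 1 := by rw [← sq, ← ht, pow_orderOf_eq_one]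
    have hinv := inverts_of_fixedPointFree' F (t0 : G) ht2 (hnorm _ t0.2) (by
      intro u hu hfix
      by_contra hu1
      exact ht1 (hsemi _ t0.2 u hu hu1 hfix))
    have hcomm : ∀ u ∈ F, ∀ v ∈ F, u * v = v * u := by
      intro u hu v hv
      have e1 := hinv (u * v) (F.mul_mem hu hv)
      have e2 := hinv u hu
      have e3 := hinv v hv
      have e4 : (t0 : G) * (u * v) * (t0 : G)⁻¹ = ((t0 : G) * u * (t0 : G)⁻¹) * ((t0 : G) * v * (t0 : G)⁻¹) := by
        group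
      rw [e4, e2, e3] at e1
      have e5 : (u⁻¹ * v⁻¹)⁻¹ = ((u * v)⁻¹)⁻¹ := by rw [e1]
      rw [inv_inv, mul_inv_rev, inv_inv, inv_inv] at e5
      exact e5.symm
    refine ⟨hcomm, ?_⟩
    have ho1 : orderOf u₁ ≠ 1 := fun h => hu₁ (orderOf_eq_one_iff.mp h)
    have ho0 : orderOf u₁ ≠ 0 := (orderOf_pos u₁).ne'
    set p := Nat.minFac (orderOf u₁) with hp
    have hpp : p.Prime := Nat.minFac_prime ho1
    have hpdvd : p ∣ orderOf u₁ := Nat.minFac_dvd _
    set x := u₁ ^ (orderOf u₁ / p) with hxdef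
    have hx : orderOf x = p := orderOf_pow_orderOf_div ho0 hpdvd
    have hxF : x ∈ F := F.pow_mem hu₁F _
    have hx1 : x ≠ 1 := by
      intro h
      rw [h, orderOf_one] at hx
      exact hpp.one_lt.ne hx
    have hxp : x ^ p = 1 := by rw [← hx, pow_orderOf_eq_one]
    refine ⟨p, hpp, ?_⟩
    by_contra hcon
    push Not at hcon
    obtain ⟨u, hu, hup⟩ := hcon
    set PF : Finset G := FF.filter (fun v => v ^ p = 1) with hPF
    have hPFsub : PF ⊆ FF := Finset.filter_subset _ _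
    have h1PF : (1 : G) ∈ PF := by
      rw [hPF, Finset.mem_filter]
      exact ⟨h1FF, one_pow p⟩
    have hA : HF.image (fun h => h * x * h⁻¹) ⊆ PF.erase 1 := by
      intro w hw
      have hw' := horb_sub x hxF hx1 hw
      rw [Finset.mem_erase] at hw' ⊢
      refine ⟨hw'.1, ?_⟩
      rw [hPF, Finset.mem_filter]
      refine ⟨hw'.2, ?_⟩
      obtain ⟨h, hh, rfl⟩ := Finset.mem_image.mp hw
      rw [conj_pow, hxp]
      group
    have hA' : HF.card ≤ PF.card - 1 := by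
      have := Finset.card_le_card hA
      rw [horb_card x hxF hx1, Finset.card_erase_of_mem h1PF] at this
      exact this
    have hPFpos : 0 < PF.card := Finset.card_pos.mpr ⟨1, h1PF⟩
    have hB : PF.image (fun v => u * v) ⊆ FF \ PF := by
      intro w hw
      obtain ⟨v, hv, rfl⟩ := Finset.mem_image.mp hw
      rw [hPF, Finset.mem_filter] at hv
      rw [Finset.mem_sdiff, hFmem]
      refine ⟨F.mul_mem hu ((hFmem v).mp hv.1), ?_⟩
      intro hmem
      rw [hPF, Finset.mem_filter] at hmem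
      have hc : Commute u v := hcomm u hu v ((hFmem v).mp hv.1)
      rw [hc.mul_pow, hv.2, mul_one] at hmem
      exact hup hmem.2
    have hBcard : (PF.image (fun v => u * v)).card = PF.card :=
      Finset.card_image_of_injective _ (mul_right_injective u)
    have hB' := Finset.card_le_card hB
    rw [hBcard, Finset.card_sdiff_of_subset hPFsub] at hB'
    have := Finset.card_le_card hPFsub
    omega
  · -- odd case
    set O₁ := HF.image (fun h => h * u₁ * h⁻¹) with hO₁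
    have hO₁card := horb_card u₁ hu₁F hu₁
    have hO₁sub := horb_sub u₁ hu₁F hu₁
    by_cases hsub : FF.erase 1 ⊆ O₁
    · apply elementary_of_conj_or_inv F H hnorm u₁ hu₁F hu₁
      intro v hv hv1
      have : v ∈ O₁ := hsub (Finset.mem_erase.mpr ⟨hv1, (hFmem v).mpr hv⟩)
      obtain ⟨h, hh, rfl⟩ := Finset.mem_image.mp this
      exact ⟨h, (hHmem h).mp hh, Or.inl rfl⟩
    · obtain ⟨u₂, hu₂mem, hu₂O⟩ := Finset.not_subset.mp hsub
      have hu₂F : u₂ ∈ F := (hFmem u₂).mp (Finset.mem_erase.mp hu₂mem).2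
      have hu₂ : u₂ ≠ 1 := (Finset.mem_erase.mp hu₂mem).1
      set O₂ := HF.image (fun h => h * u₂ * h⁻¹) with hO₂
      have hO₂card := horb_card u₂ hu₂F hu₂
      have hO₂sub := horb_sub u₂ hu₂F hu₂
      have hdisj : Disjoint O₁ O₂ := by
        rw [Finset.disjoint_left]
        intro w hw1 hw2
        obtain ⟨h, hh, rfl⟩ := Finset.mem_image.mp hw1
        obtain ⟨h', hh', heq⟩ := Finset.mem_image.mp hw2
        apply hu₂O
        rw [hO₁, Finset.mem_image]
        refine ⟨h'⁻¹ * h, (hHmem _).mpr (H.mul_mem (H.inv_mem ((hHmem h').mp hh')) ((hHmem h).mp hh)), ?_⟩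
        have heq' : h' * u₂ * h'⁻¹ = h * u₁ * h⁻¹ := heq
        have : u₂ = h'⁻¹ * (h' * u₂ * h'⁻¹) * h' := by group
        rw [this, heq']
        group
      have hunion_sub : O₁ ∪ O₂ ⊆ FF.erase 1 := Finset.union_subset hO₁sub hO₂sub
      have hunion_card : (O₁ ∪ O₂).card = 2 * HF.card := by
        rw [Finset.card_union_of_disjoint hdisj, hO₁card, hO₂card]
        ring
      have herase : (FF.erase 1).card = FF.card - 1 := Finset.card_erase_of_mem h1FF
      have hunion_eq : O₁ ∪ O₂ = FF.erase 1 :=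
        Finset.eq_of_subset_of_card_le hunion_sub (by rw [hunion_card, herase]; omega)
      have hFFcard : FF.card = 2 * HF.card + 1 := by
        have := congrArg Finset.card hunion_eq
        rw [hunion_card, herase] at this
        omega
      have hu₁inv : u₁⁻¹ ∈ O₁ ∪ O₂ := by
        rw [hunion_eq, Finset.mem_erase, hFmem]
        exact ⟨fun h => hu₁ (inv_eq_one.mp h), F.inv_mem hu₁F⟩
      have hnotO₁ : u₁⁻¹ ∉ O₁ := by
        intro hmem
        obtain ⟨h, hh, heq⟩ := Finset.mem_image.mp hmem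
        have hh := (hHmem h).mp hh
        have heq' : h * u₁ * h⁻¹ = u₁⁻¹ := heq
        have e : (h * h) * u₁ * (h * h)⁻¹ = u₁ := by
          have : (h * h) * u₁ * (h * h)⁻¹ = h * (h * u₁ * h⁻¹) * h⁻¹ := by group
          rw [this, heq']
          have : h * u₁⁻¹ * h⁻¹ = (h * u₁ * h⁻¹)⁻¹ := by group
          rw [this, heq', inv_inv]
        have hh2 : h * h = 1 := hsemi _ (H.mul_mem hh hh) u₁ hu₁F hu₁ e
        have hord2 : orderOf h ∣ 2 := orderOf_dvd_of_pow_eq_one (by rw [sq]; exact hh2)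
        have hordH : orderOf h ∣ Nat.card H := by
          have := orderOf_dvd_natCard (⟨h, hh⟩ : ↥H)
          rwa [Subgroup.orderOf_mk] at this
        have hord1 : orderOf h = 1 := by
          have h2 : orderOf h ∣ Nat.gcd 2 (Nat.card H) := Nat.dvd_gcd hord2 hordH
          have h3 : Nat.gcd 2 (Nat.card H) = 1 := by
            rw [Nat.coprime_comm.mp (Nat.Coprime.symm (Nat.coprime_two_left.mpr hodd))]
          rw [h3] at h2
          exact Nat.dvd_one.mp h2
        have hh1 : h = 1 := orderOf_eq_one_iff.mp hord1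
        rw [hh1] at heq'
        have hu₁2 : u₁ * u₁ = 1 := by
          have : u₁ = u₁⁻¹ := by simpa using heq'
          calc u₁ * u₁ = u₁ * u₁⁻¹ := by rw [← this]
            _ = 1 := mul_inv_cancel u₁
        have ho : orderOf u₁ = 2 := orderOf_eq_prime (by rw [sq]; exact hu₁2) hu₁
        have hdvd : 2 ∣ Nat.card F := by
          have := orderOf_dvd_natCard (⟨u₁, hu₁F⟩ : ↥F)
          rwa [Subgroup.orderOf_mk, ho] at this
        rw [hFcard, hFFcard] at hdvd
        omega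
      have hinO₂ : u₁⁻¹ ∈ O₂ := by
        rcases Finset.mem_union.mp hu₁inv with h | h
        · exact absurd h hnotO₁
        · exact h
      obtain ⟨g, hg, hgeq⟩ := Finset.mem_image.mp hinO₂
      have hg := (hHmem g).mp hg
      have hgeq' : g * u₂ * g⁻¹ = u₁⁻¹ := hgeq
      have hu₂eq : u₂ = g⁻¹ * u₁⁻¹ * g := by
        rw [← hgeq']
        group
      apply elementary_of_conj_or_inv F H hnorm u₁ hu₁F hu₁
      intro v hv hv1
      have hvmem : v ∈ O₁ ∪ O₂ := by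
        rw [hunion_eq, Finset.mem_erase, hFmem]
        exact ⟨hv1, hv⟩
      rcases Finset.mem_union.mp hvmem with h | h
      · obtain ⟨h', hh', rfl⟩ := Finset.mem_image.mp h
        exact ⟨h', (hHmem h').mp hh', Or.inl rfl⟩
      · obtain ⟨h', hh', rfl⟩ := Finset.mem_image.mp h
        refine ⟨h' * g⁻¹, H.mul_mem ((hHmem h').mp hh') (H.inv_mem hg), Or.inr ?_⟩
        show h' * u₂ * h'⁻¹ = _
        rw [hu₂eq]
        group

end Cfsg.Agent.Lib.Helper13
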