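-- helper13: coordinate-subspace stabilisers via index predicates; the Borel subgroup of Sp_2m(q).
import Mathlib
import Cfsg.Prelude.Def_ClassicalGeometry
import Cfsg.Agent.Lib.Helper13.Parabolic
import Cfsg.Agent.Lib.Helper13.GLCount

set_option autoImplicit false

namespace Cfsg.Agent.Lib.Helper13

open Matrix

universe u

variable {F : Type u} [Field F]

/-- An invertible matrix stabilises the coordinate subspace `{v | v i = 0 for ¬ p i}` iff its
entries `M i j` with `¬ p i`, `p j` vanish. -/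
theorem stab_pred_iff {ι : Type} [Fintype ι] [DecidableEq ι] (p : ι → Prop) [DecidablePred p]
    (M : Matrix ι ι F) (hM : M.det ≠ 0) :
    (∀ v : ι → F, v ∈ {v : ι → F | ∀ i, ¬ p i → v i = 0} ↔
      M *ᵥ v ∈ {v : ι → F | ∀ i, ¬ p i → v i = 0}) ↔ ∀ i j, ¬ p i → p j → M i j = 0 := by
  have hset : {w : {a // p a} ⊕ {a // ¬ p a} → F | w ∘ (Equiv.sumCompl p).symm ∈
      {v : ι → F | ∀ i, ¬ p i → v i = 0}} =
      {w : {a // p a} ⊕ {a // ¬ p a} → F | ∀ b : {a // ¬ p a}, w (Sum.inr b) = 0} := by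
    ext w
    simp only [Set.mem_ofPred_eq, Function.comp_apply]
    constructor
    · intro h b
      have := h b.1 b.2
      rwa [Equiv.sumCompl_symm_apply_of_neg b.2] at this
    · intro h i hi
      rw [Equiv.sumCompl_symm_apply_of_neg hi]
      exact h ⟨i, hi⟩
  have hdet : (M.submatrix (Equiv.sumCompl p) (Equiv.sumCompl p)).det ≠ 0 := by
    rw [det_submatrix_equiv_self]
    exact hM
  rw [stab_submatrix_iff (Equiv.sumCompl p) M _, hset, stab_inr_iff _ hdet]
  constructor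
  · intro h i j hi hj
    have := congrFun (congrFun h ⟨i, hi⟩) ⟨j, hj⟩
    exact this
  · intro h
    ext b a
    exact h b.1 a.1 b.2 a.2

/-- symplectic condition for a block upper triangular matrix. -/
theorem blockUpper_symp {m : ℕ} (X Bm Y : Matrix (Fin m) (Fin m) F) :
    fromBlocks X Bm 0 Y ∈ Matrix.symplecticGroup (Fin m) F ↔
      (Bm * Xᵀ = X * Bmᵀ ∧ X * Yᵀ = 1) := by
  rw [SymplecticGroup.mem_iff, Matrix.J, fromBlocks_multiply, fromBlocks_transpose,
    fromBlocks_multiply]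
  simp only [mul_zero, zero_mul, add_zero, zero_add, mul_one, mul_neg, neg_mul,
    Matrix.transpose_zero, neg_zero]
  rw [Matrix.fromBlocks_inj]
  constructor
  · rintro ⟨h1, h2, -, -⟩
    exact ⟨by rw [← sub_eq_zero, sub_eq_add_neg]; exact h1, neg_injective h2⟩
  · rintro ⟨h1, h2⟩
    refine ⟨by rw [h1, add_neg_cancel], by rw [h2], ?_, rfl⟩
    have := congrArg Matrix.transpose h2
    rw [Matrix.transpose_mul, Matrix.transpose_transpose, Matrix.transpose_one] at this
    exact this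

/-- membership in the standard Borel subgroup of `Sp_2m`. -/
theorem mem_spBorel_iff (m : ℕ) (x : ↥(Matrix.symplecticGroup (Fin m) F)) :
    x ∈ (⨅ k : Fin m, Cfsg.stabilizing (Cfsg.spToMat m F)
        {v : Fin m ⊕ Fin m → F | (∀ i : Fin m, (k : ℕ) < (i : ℕ) → v (Sum.inl i) = 0) ∧
          ∀ i : Fin m, v (Sum.inr i) = 0}) ↔
      (∀ i j : Fin m, (x.1 : Matrix (Fin m ⊕ Fin m) (Fin m ⊕ Fin m) F) (Sum.inr i) (Sum.inl j)
        = 0) ∧
      (∀ i j : Fin m, j < i →
        (x.1 : Matrix (Fin m ⊕ Fin m) (Fin m ⊕ Fin m) F) (Sum.inl i) (Sum.inl j) = 0) := by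
  classical
  rw [Subgroup.mem_iInf]
  have hdet : (x.1 : Matrix (Fin m ⊕ Fin m) (Fin m ⊕ Fin m) F).det ≠ 0 :=
    (SymplecticGroup.symplectic_det x.2).ne_zero
  let p : Fin m → Fin m ⊕ Fin m → Prop := fun k =>
    Sum.elim (fun i : Fin m => (i : ℕ) ≤ (k : ℕ)) (fun _ => False)
  have hset : ∀ k : Fin m, {v : Fin m ⊕ Fin m → F |
      (∀ i : Fin m, (k : ℕ) < (i : ℕ) → v (Sum.inl i) = 0) ∧ ∀ i : Fin m, v (Sum.inr i) = 0} =
      {v : Fin m ⊕ Fin m → F | ∀ a, ¬ p k a → v a = 0} := by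
    intro k
    ext v
    simp only [Set.mem_ofPred_eq, Sum.forall, p, Sum.elim_inl, Sum.elim_inr, not_le,
      not_false_eq_true, forall_const]
  have hk : ∀ k : Fin m, x ∈ Cfsg.stabilizing (Cfsg.spToMat m F)
        {v : Fin m ⊕ Fin m → F | (∀ i : Fin m, (k : ℕ) < (i : ℕ) → v (Sum.inl i) = 0) ∧
          ∀ i : Fin m, v (Sum.inr i) = 0} ↔
      ∀ a b, ¬ p k a → p k b →
        (x.1 : Matrix (Fin m ⊕ Fin m) (Fin m ⊕ Fin m) F) a b = 0 := by
    intro k
    rw [← stab_pred_iff (p k) _ hdet, ← hset k]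
    exact Iff.rfl
  simp only [hk]
  constructor
  · intro h
    refine ⟨fun i j => ?_, fun i j hij => ?_⟩
    · exact h j (Sum.inr i) (Sum.inl j) (by simp [p]) (by simp [p])
    · exact h j (Sum.inl i) (Sum.inl j) (by simpa [p] using hij) (by simp [p])
  · rintro ⟨h1, h2⟩ k a b ha hb
    rcases b with j | j
    · rcases a with i | i
      · apply h2
        simp only [p, Sum.elim_inl, not_le] at ha hb
        exact Fin.lt_def.mpr (by omega)
      · exact h1 i j
    · simp [p] at hb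

theorem prod_lowerDiag_count (q n : ℕ) :
    (∏ i : Fin n, ∏ j : Fin n, (if i < j then 1 else q)) = q ^ (n * (n + 1) / 2) := by
  have inner : ∀ i : Fin n, (∏ j : Fin n, (if i < j then 1 else q)) = q ^ ((i : ℕ) + 1) := by
    intro i
    rw [Finset.prod_ite, Finset.prod_const, Finset.prod_const, one_pow, one_mul]
    congr 1
    rw [← Fin.card_Iic i]
    congr 1
    ext j
    simp
  rw [Finset.prod_congr rfl (fun i _ => inner i), Finset.prod_pow_eq_pow_sum,
    Fin.sum_univ_eq_sum_range (fun i => i + 1) n]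
  congr 1
  have h := Finset.sum_range_id (n + 1)
  rw [Finset.sum_range_succ', add_zero, Nat.add_sub_cancel] at h
  rw [h, mul_comm]

/-- the number of symmetric matrices. -/
theorem card_symmetric [Fintype F] (m : ℕ) :
    Nat.card {S : Matrix (Fin m) (Fin m) F // Sᵀ = S} =
      (Fintype.card F) ^ (m * (m + 1) / 2) := by
  classical
  let T : Finset (Fin m → Fin m → F) :=
    Fintype.piFinset (fun i => Fintype.piFinset (fun j => if i < j then {0} else Finset.univ))
  have hT : T.card = (Fintype.card F) ^ (m * (m + 1) / 2) := by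
    rw [Fintype.card_piFinset, ← prod_lowerDiag_count]
    apply Finset.prod_congr rfl
    intro i _
    rw [Fintype.card_piFinset]
    apply Finset.prod_congr rfl
    intro j _
    split_ifs
    · simp
    · rw [Finset.card_univ]
  have hmem : ∀ M : Fin m → Fin m → F, M ∈ T ↔ ∀ i j : Fin m, i < j → M i j = 0 := by
    intro M
    simp only [T, Fintype.mem_piFinset]
    constructor
    · intro h i j hij
      have := h i j
      rw [if_pos hij, Finset.mem_singleton] at this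
      exact this
    · intro h i j
      split_ifs with h3
      · simp [h i j h3]
      · simp
  rw [← hT, ← Nat.card_eq_finsetCard T]
  apply Nat.card_congr
  refine
    { toFun := fun S => ⟨fun i j => if j ≤ i then S.1 i j else 0, (hmem _).mpr ?_⟩
      invFun := fun M => ⟨Matrix.of fun i j => if j ≤ i then M.1 i j else M.1 j i, ?_⟩
      left_inv := fun S => ?_
      right_inv := fun M => ?_ }
  · intro i j hij
    rw [if_neg (not_le.mpr hij)]
  · ext i j
    simp only [Matrix.transpose_apply, Matrix.of_apply]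
    rcases lt_trichotomy i j with h | h | h
    · rw [if_pos h.le, if_neg (not_le.mpr h)]
    · subst h
      rfl
    · rw [if_neg (not_le.mpr h), if_pos h.le]
  · apply Subtype.ext
    ext i j
    simp only [Matrix.of_apply]
    by_cases h : j ≤ i
    · rw [if_pos h, if_pos h]
    · rw [if_neg h, if_pos (not_le.mp h).le]
      have := congrFun (congrFun S.2 i) j
      rw [Matrix.transpose_apply] at this
      exact this
  · apply Subtype.ext
    funext i j
    simp only [Matrix.of_apply]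
    by_cases h : j ≤ i
    · rw [if_pos h, if_pos h]
    · rw [if_neg h]
      exact ((hmem M.1).mp M.2 i j (not_le.mp h)).symm

theorem triangle_add_triangle (m : ℕ) : m * (m - 1) / 2 + m * (m + 1) / 2 = m ^ 2 := by
  cases m with
  | zero => rfl
  | succ k =>
    obtain ⟨a, ha⟩ := (Nat.even_mul_pred_self (k + 1)).two_dvd
    obtain ⟨b, hb⟩ := (Nat.even_mul_succ_self (k + 1)).two_dvd
    rw [ha, hb, Nat.mul_div_cancel_left _ two_pos, Nat.mul_div_cancel_left _ two_pos]
    have h : 2 * (a + b) = 2 * (k + 1) ^ 2 := by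
      rw [mul_add, ← ha, ← hb, Nat.add_sub_cancel]
      ring
    exact Nat.eq_of_mul_eq_mul_left two_pos h

/-- Order of the standard Borel subgroup of `Sp_2m(q)`. -/
theorem card_spBorel [Fintype F] (m : ℕ) :
    Nat.card ↥(⨅ k : Fin m, Cfsg.stabilizing (Cfsg.spToMat m F)
        {v : Fin m ⊕ Fin m → F | (∀ i : Fin m, (k : ℕ) < (i : ℕ) → v (Sum.inl i) = 0) ∧
          ∀ i : Fin m, v (Sum.inr i) = 0}) =
      (Fintype.card F) ^ (m ^ 2) * (Fintype.card F - 1) ^ m := by
  have hcount : Nat.card ({g : Matrix.GeneralLinearGroup (Fin m) F //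
        ∀ i j : Fin m, i < j → (g : Matrix (Fin m) (Fin m) F) i j = 0} ×
        {S : Matrix (Fin m) (Fin m) F // Sᵀ = S}) =
      (Fintype.card F) ^ (m ^ 2) * (Fintype.card F - 1) ^ m := by
    rw [Nat.card_prod, card_lower_triangular, card_symmetric, ← triangle_add_triangle m, pow_add]
    ring
  rw [← hcount]
  symm
  apply Nat.card_congr
  have hsymp : ∀ P : {g : Matrix.GeneralLinearGroup (Fin m) F //
        ∀ i j : Fin m, i < j → (g : Matrix (Fin m) (Fin m) F) i j = 0} ×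
        {S : Matrix (Fin m) (Fin m) F // Sᵀ = S},
      fromBlocks (P.1.1 : Matrix (Fin m) (Fin m) F)ᵀ
        (P.2.1 * ((P.1.1⁻¹ : Matrix.GeneralLinearGroup (Fin m) F) : Matrix (Fin m) (Fin m) F)) 0
        ((P.1.1⁻¹ : Matrix.GeneralLinearGroup (Fin m) F) : Matrix (Fin m) (Fin m) F) ∈
        Matrix.symplecticGroup (Fin m) F := by
    intro P
    have hLi : ((P.1.1⁻¹ : Matrix.GeneralLinearGroup (Fin m) F) : Matrix (Fin m) (Fin m) F) *
        (P.1.1 : Matrix (Fin m) (Fin m) F) = 1 := P.1.1.inv_mul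
    rw [blockUpper_symp]
    constructor
    · rw [Matrix.transpose_transpose, Matrix.mul_assoc, hLi, Matrix.mul_one,
        Matrix.transpose_mul, ← Matrix.mul_assoc, ← Matrix.transpose_mul, hLi,
        Matrix.transpose_one, Matrix.one_mul, P.2.2]
    · rw [← Matrix.transpose_mul, hLi, Matrix.transpose_one]
  refine Equiv.ofBijective (fun P => ⟨⟨_, hsymp P⟩, (mem_spBorel_iff m _).mpr
    ⟨fun i j => rfl, fun i j hij => P.1.2 j i hij⟩⟩) ⟨?_, ?_⟩
  · intro P Q hPQ
    have h1 : fromBlocks (P.1.1 : Matrix (Fin m) (Fin m) F)ᵀ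
        (P.2.1 * ((P.1.1⁻¹ : Matrix.GeneralLinearGroup (Fin m) F) : Matrix (Fin m) (Fin m) F)) 0
        ((P.1.1⁻¹ : Matrix.GeneralLinearGroup (Fin m) F) : Matrix (Fin m) (Fin m) F) =
      fromBlocks (Q.1.1 : Matrix (Fin m) (Fin m) F)ᵀ
        (Q.2.1 * ((Q.1.1⁻¹ : Matrix.GeneralLinearGroup (Fin m) F) : Matrix (Fin m) (Fin m) F)) 0
        ((Q.1.1⁻¹ : Matrix.GeneralLinearGroup (Fin m) F) : Matrix (Fin m) (Fin m) F) :=
      congrArg (fun z => (z.1.1 : Matrix (Fin m ⊕ Fin m) (Fin m ⊕ Fin m) F)) hPQ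
    rw [Matrix.fromBlocks_inj] at h1
    obtain ⟨h11, h12, -, -⟩ := h1
    have hL : P.1.1 = Q.1.1 := Units.ext (Matrix.transpose_injective h11)
    have hS : P.2.1 = Q.2.1 := by
      rw [hL] at h12
      have := congrArg (fun z => z * (Q.1.1 : Matrix (Fin m) (Fin m) F)) h12
      simpa only [Matrix.mul_assoc, Q.1.1.inv_mul, Matrix.mul_one] using this
    exact Prod.ext (Subtype.ext hL) (Subtype.ext hS)
  · intro x
    obtain ⟨h21, hup⟩ := (mem_spBorel_iff m x.1).mp x.2
    have hA := fromBlocks_toBlocks (x.1.1 : Matrix (Fin m ⊕ Fin m) (Fin m ⊕ Fin m) F)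
    have hz : (x.1.1 : Matrix (Fin m ⊕ Fin m) (Fin m ⊕ Fin m) F).toBlocks₂₁ = 0 := by
      ext i j
      exact h21 i j
    rw [hz] at hA
    have hsp := x.1.2
    rw [← hA, blockUpper_symp] at hsp
    obtain ⟨hs1, hs2⟩ := hsp
    have hYX : (x.1.1 : Matrix (Fin m ⊕ Fin m) (Fin m ⊕ Fin m) F).toBlocks₂₂ *
        ((x.1.1 : Matrix (Fin m ⊕ Fin m) (Fin m ⊕ Fin m) F).toBlocks₁₁)ᵀ = 1 := by
      have := congrArg Matrix.transpose hs2
      rwa [Matrix.transpose_mul, Matrix.transpose_transpose, Matrix.transpose_one] at this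
    have hXY := mul_eq_one_comm.mp hYX
    refine ⟨(⟨⟨((x.1.1 : Matrix (Fin m ⊕ Fin m) (Fin m ⊕ Fin m) F).toBlocks₁₁)ᵀ,
        (x.1.1 : Matrix (Fin m ⊕ Fin m) (Fin m ⊕ Fin m) F).toBlocks₂₂, hXY, hYX⟩,
        fun i j hij => hup j i hij⟩,
      ⟨(x.1.1 : Matrix (Fin m ⊕ Fin m) (Fin m ⊕ Fin m) F).toBlocks₁₂ *
        ((x.1.1 : Matrix (Fin m ⊕ Fin m) (Fin m ⊕ Fin m) F).toBlocks₁₁)ᵀ, by
        rw [Matrix.transpose_mul, Matrix.transpose_transpose, hs1]⟩), ?_⟩
    apply Subtype.ext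
    apply Subtype.ext
    change fromBlocks (((x.1.1 : Matrix (Fin m ⊕ Fin m) (Fin m ⊕ Fin m) F).toBlocks₁₁)ᵀ)ᵀ
      ((x.1.1 : Matrix (Fin m ⊕ Fin m) (Fin m ⊕ Fin m) F).toBlocks₁₂ *
        ((x.1.1 : Matrix (Fin m ⊕ Fin m) (Fin m ⊕ Fin m) F).toBlocks₁₁)ᵀ *
        (x.1.1 : Matrix (Fin m ⊕ Fin m) (Fin m ⊕ Fin m) F).toBlocks₂₂) 0
      (x.1.1 : Matrix (Fin m ⊕ Fin m) (Fin m ⊕ Fin m) F).toBlocks₂₂ = x.1.1
    rw [Matrix.transpose_transpose, Matrix.mul_assoc, hXY, Matrix.mul_one]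
    exact hA

end Cfsg.Agent.Lib.Helper13
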