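-- helper13: basic facts on Zassenhaus groups (Cfsg.IsZassenhausGroup).
import Mathlib
import Cfsg.Prelude.Def_LieExceptional

set_option autoImplicit false

namespace Cfsg.Agent.Lib.Helper13

open MulAction

variable {G Ω : Type*} [Group G] [MulAction G Ω]

theorem zass_two_trans (hZ : Cfsg.IsZassenhausGroup G Ω) {a b c d : Ω} (hab : a ≠ b)
    (hcd : c ≠ d) : ∃ g : G, g • a = c ∧ g • b = d :=
  (MulAction.is_two_pretransitive_iff.mp hZ.2.1) hab hcd

theorem zass_three (hZ : Cfsg.IsZassenhausGroup G Ω) {g : G} {a b c : Ω} (hab : a ≠ b)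
    (hbc : b ≠ c) (hac : a ≠ c) (ha : g • a = a) (hb : g • b = b) (hc : g • c = c) : g = 1 :=
  hZ.2.2.1 g a b c hab hbc hac ha hb hc

theorem zass_exists_moved (hZ : Cfsg.IsZassenhausGroup G Ω) {g : G} (hg : g ≠ 1) :
    ∃ c : Ω, g • c ≠ c := by
  by_contra h
  push Not at h
  apply hg
  have := hZ.1
  exact FaithfulSMul.eq_of_smul_eq_smul (α := Ω) (fun c => by rw [h c, one_smul])

theorem zass_card_fixedBy_le_two [Finite Ω] (hZ : Cfsg.IsZassenhausGroup G Ω) {g : G}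
    (hg : g ≠ 1) : Nat.card (fixedBy Ω g) ≤ 2 := by
  classical
  by_contra hlt
  push Not at hlt
  have : Fintype (fixedBy Ω g) := Fintype.ofFinite _
  rw [Nat.card_eq_fintype_card, Fintype.two_lt_card_iff] at hlt
  obtain ⟨⟨a, ha⟩, ⟨b, hb⟩, ⟨c, hc⟩, hab, hac, hbc⟩ := hlt
  apply hg
  exact zass_three hZ (fun h => hab (Subtype.ext h)) (fun h => hbc (Subtype.ext h))
    (fun h => hac (Subtype.ext h)) ha hb hc

theorem card_modEq_card_fixedBy_two [Finite Ω] {s : G} (hs : orderOf s = 2) :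
    Nat.card Ω ≡ Nat.card (fixedBy Ω s) [MOD 2] := by
  have hP : IsPGroup 2 (Subgroup.zpowers s) := by
    apply IsPGroup.of_card (n := 1)
    rw [Nat.card_zpowers, hs, pow_one]
  have : Fact (Nat.Prime 2) := ⟨Nat.prime_two⟩
  have h := hP.card_modEq_card_fixedPoints Ω
  have heq : fixedPoints (Subgroup.zpowers s) Ω = fixedBy Ω s := by
    ext x
    constructor
    · intro hx
      exact hx ⟨s, Subgroup.mem_zpowers s⟩
    · intro hx
      rintro ⟨g, hg⟩
      obtain ⟨j, rfl⟩ := Subgroup.mem_zpowers_iff.mp hg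
      exact mem_fixedBy_zpow hx j
  rw [heq] at h
  exact h

/-- an involution can be conjugated so as to swap two given points. -/
theorem zass_exists_conj_swap (hZ : Cfsg.IsZassenhausGroup G Ω) {t : G} (ht : orderOf t = 2)
    {a b : Ω} (hab : a ≠ b) :
    ∃ x : G, (x * t * x⁻¹) • a = b ∧ (x * t * x⁻¹) • b = a := by
  have ht1 : t ≠ 1 := by
    intro h
    rw [h, orderOf_one] at ht
    omega
  have ht2 : t * t = 1 := by
    rw [← sq, ← ht, pow_orderOf_eq_one]
  obtain ⟨c, hc⟩ := zass_exists_moved hZ ht1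
  obtain ⟨x, hxa, hxb⟩ := zass_two_trans hZ (Ne.symm hc) hab
  have hxa' : x⁻¹ • a = c := by rw [inv_smul_eq_iff, hxa]
  have hxb' : x⁻¹ • b = t • c := by rw [inv_smul_eq_iff, hxb]
  refine ⟨x, ?_, ?_⟩
  · rw [mul_smul, mul_smul, hxa', hxb]
  · rw [mul_smul, mul_smul, hxb', ← mul_smul t t, ht2, one_smul, hxa]

theorem orderOf_conj_eq (x t : G) : orderOf (x * t * x⁻¹) = orderOf t := by
  have h : x * t * x⁻¹ = (MulAut.conj x).toMonoidHom t := by simp
  rw [h, orderOf_injective (MulAut.conj x).toMonoidHom (MulAut.conj x).injective]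

/-- the group has an involution. -/
theorem zass_exists_involution [Finite G] (hZ : Cfsg.IsZassenhausGroup G Ω) {a b : Ω}
    (hab : a ≠ b) : ∃ t : G, orderOf t = 2 := by
  obtain ⟨g, hga, hgb⟩ := zass_two_trans hZ hab (Ne.symm hab)
  have hodd : ∀ k : ℕ, (g ^ (2 * k)) • a = a ∧ (g ^ (2 * k + 1)) • a = b := by
    intro k
    induction k with
    | zero => simp [hga]
    | succ k ih =>
      have e1 : g ^ (2 * (k + 1)) = g * g ^ (2 * k + 1) := by
        rw [← pow_succ']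
        congr 1
      have e2 : g ^ (2 * (k + 1) + 1) = g * (g * g ^ (2 * k + 1)) := by
        rw [← pow_succ', ← pow_succ']
        congr 1
      rw [e1, e2, mul_smul, mul_smul, mul_smul, ih.2, hgb, hga]
      exact ⟨rfl, rfl⟩
  have heven : Even (orderOf g) := by
    by_contra hnot
    rw [Nat.not_even_iff_odd] at hnot
    obtain ⟨k, hk⟩ := hnot
    have := (hodd k).2
    rw [← hk, pow_orderOf_eq_one, one_smul] at this
    exact hab this
  have hpos : 0 < orderOf g := orderOf_pos g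
  obtain ⟨j, hj⟩ := heven
  refine ⟨g ^ j, ?_⟩
  apply orderOf_eq_prime
  · rw [← pow_mul, mul_comm, two_mul, ← hj, pow_orderOf_eq_one]
  · intro h
    have := orderOf_le_of_pow_eq_one (by omega : 0 < j) h
    omega

theorem ne_one_of_orderOf_two {t : G} (ht : orderOf t = 2) : t ≠ 1 := by
  intro h
  rw [h, orderOf_one] at ht
  omega

theorem mul_self_of_orderOf_two {t : G} (ht : orderOf t = 2) : t * t = 1 := by
  rw [← sq, ← ht, pow_orderOf_eq_one]

theorem inv_smul_of_mul_self {t : G} (ht : t * t = 1) (p : Ω) : t⁻¹ • p = t • p := by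
  rw [inv_smul_eq_iff, ← mul_smul, ht, one_smul]

/-- two elements of square one fixing `x` and mapping `y` to the same `u ∉ {x, y}` are equal. -/
theorem zass_eq_of_swap (hZ : Cfsg.IsZassenhausGroup G Ω) {x y u : Ω} (hxy : x ≠ y)
    (huy : u ≠ y) (hux : u ≠ x) {s s' : G} (hsx : s • x = x) (hs'x : s' • x = x)
    (hsy : s • y = u) (hs'y : s' • y = u) (hs2 : s * s = 1) (hs'2 : s' * s' = 1) : s = s' := by
  have hsu : s • u = y := by rw [← hsy, ← mul_smul, hs2, one_smul]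
  have hs'u : s' • u = y := by rw [← hs'y, ← mul_smul, hs'2, one_smul]
  have h1 : s⁻¹ * s' = 1 := by
    apply zass_three hZ hxy (Ne.symm huy) (Ne.symm hux)
    · rw [mul_smul, hs'x, inv_smul_eq_iff, hsx]
    · rw [mul_smul, hs'y, inv_smul_eq_iff, hsy]
    · rw [mul_smul, hs'u, inv_smul_eq_iff, hsu]
  exact inv_mul_eq_one.mp h1

/-- In a finite Zassenhaus group a two-point stabiliser contains at most one involution. -/
theorem zass_involution_unique [Finite Ω] (hZ : Cfsg.IsZassenhausGroup G Ω) {x y : Ω}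
    (hxy : x ≠ y) {t t' : G} (ht : orderOf t = 2) (ht' : orderOf t' = 2) (htx : t • x = x)
    (hty : t • y = y) (ht'x : t' • x = x) (ht'y : t' • y = y) : t = t' := by
  classical
  have ht1 := ne_one_of_orderOf_two ht
  have ht'1 := ne_one_of_orderOf_two ht'
  have ht2 := mul_self_of_orderOf_two ht
  have ht'2 := mul_self_of_orderOf_two ht'
  have hg : ∀ z : {z : Ω // z ≠ x ∧ z ≠ y}, ∃ g : G, g • x = x ∧ g • y = z.1 :=
    fun z => zass_two_trans hZ hxy (Ne.symm z.2.1)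
  choose g hgx hgy using hg
  have hgx' : ∀ z, (g z)⁻¹ • x = x := fun z => by rw [inv_smul_eq_iff, hgx]
  have hgy' : ∀ z : {z : Ω // z ≠ x ∧ z ≠ y}, (g z)⁻¹ • z.1 = y := fun z => by
    rw [inv_smul_eq_iff, hgy]
  -- properties of the conjugates
  have hconj : ∀ (s : G) (z : {z : Ω // z ≠ x ∧ z ≠ y}), s • x = x → s • y = y → s ≠ 1 →
      s * s = 1 →
      (g z * s * (g z)⁻¹) • x = x ∧ (g z * s * (g z)⁻¹) • z.1 = z.1 ∧
      (g z * s * (g z)⁻¹) * (g z * s * (g z)⁻¹) = 1 ∧ (g z * s * (g z)⁻¹) ≠ 1 ∧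
      (g z * s * (g z)⁻¹) • y ≠ y ∧ (g z * s * (g z)⁻¹) • y ≠ x := by
    intro s z hsx hsy hs1 hs2
    have h1 : (g z * s * (g z)⁻¹) • x = x := by
      rw [mul_smul, mul_smul, hgx', hsx, hgx]
    have h2 : (g z * s * (g z)⁻¹) • z.1 = z.1 := by
      rw [mul_smul, mul_smul, hgy', hsy, hgy]
    have h3 : (g z * s * (g z)⁻¹) * (g z * s * (g z)⁻¹) = 1 := by
      have : (g z * s * (g z)⁻¹) * (g z * s * (g z)⁻¹) = g z * (s * s) * (g z)⁻¹ := by group
      rw [this, hs2]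
      group
    have h4 : (g z * s * (g z)⁻¹) ≠ 1 := by
      intro h
      apply hs1
      have : s = (g z)⁻¹ * (g z * s * (g z)⁻¹) * g z := by group
      rw [this, h]
      group
    refine ⟨h1, h2, h3, h4, ?_, ?_⟩
    · intro h5
      exact h4 (zass_three hZ hxy (Ne.symm z.2.2) (Ne.symm z.2.1) h1 h5 h2)
    · intro h5
      apply hxy
      have : (g z * s * (g z)⁻¹) • y = (g z * s * (g z)⁻¹) • x := by rw [h5, h1]
      exact (smul_left_cancel _ this).symm
  -- fixed point determines index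
  have hidx : ∀ (r : G) (z w : {z : Ω // z ≠ x ∧ z ≠ y}), r ≠ 1 → r • x = x → r • z.1 = z.1 →
      r • w.1 = w.1 → z = w := by
    intro r z w hr hrx hrz hrw
    by_contra hzw
    apply hr
    exact zass_three hZ (Ne.symm z.2.1) (fun h => hzw (Subtype.ext h)) (Ne.symm w.2.1) hrx hrz hrw
  let f : {z : Ω // z ≠ x ∧ z ≠ y} → {z : Ω // z ≠ x ∧ z ≠ y} := fun z =>
    ⟨(g z * t * (g z)⁻¹) • y, (hconj t z htx hty ht1 ht2).2.2.2.2.2,
      (hconj t z htx hty ht1 ht2).2.2.2.2.1⟩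
  have hf : Function.Injective f := by
    intro z w hzw
    have hzw' : (g z * t * (g z)⁻¹) • y = (g w * t * (g w)⁻¹) • y := congrArg Subtype.val hzw
    obtain ⟨a1, a2, a3, a4, a5, a6⟩ := hconj t z htx hty ht1 ht2
    obtain ⟨b1, b2, b3, b4, b5, b6⟩ := hconj t w htx hty ht1 ht2
    have heq : g z * t * (g z)⁻¹ = g w * t * (g w)⁻¹ :=
      zass_eq_of_swap hZ hxy b5 b6 a1 b1 hzw' rfl a3 b3
    exact hidx _ z w a4 a1 a2 (by rw [heq]; exact b2)
  have hsurj : Function.Surjective f := Finite.surjective_of_injective hf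
  obtain ⟨c, hc⟩ := zass_exists_moved hZ ht1
  have hcx : c ≠ x := fun h => hc (by rw [h, htx])
  have hcy : c ≠ y := fun h => hc (by rw [h, hty])
  obtain ⟨b1, b2, b3, b4, b5, b6⟩ := hconj t' ⟨c, hcx, hcy⟩ ht'x ht'y ht'1 ht'2
  obtain ⟨z, hz⟩ := hsurj ⟨(g ⟨c, hcx, hcy⟩ * t' * (g ⟨c, hcx, hcy⟩)⁻¹) • y, b6, b5⟩
  have hz' : (g z * t * (g z)⁻¹) • y = (g ⟨c, hcx, hcy⟩ * t' * (g ⟨c, hcx, hcy⟩)⁻¹) • y :=
    congrArg Subtype.val hz
  obtain ⟨a1, a2, a3, a4, a5, a6⟩ := hconj t z htx hty ht1 ht2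
  have heq : g z * t * (g z)⁻¹ = g ⟨c, hcx, hcy⟩ * t' * (g ⟨c, hcx, hcy⟩)⁻¹ :=
    zass_eq_of_swap hZ hxy b5 b6 a1 b1 hz' rfl a3 b3
  have hzc : z = ⟨c, hcx, hcy⟩ := hidx _ z ⟨c, hcx, hcy⟩ a4 a1 a2 (by rw [heq]; exact b2)
  rw [hzc] at heq
  exact mul_left_cancel (mul_right_cancel heq)

end Cfsg.Agent.Lib.Helper13
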